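import Cfsg.Agent.Lib.ExtFieldUnit.Climb

/-!
The centres of transvections in the overgroup: one isotropic line of centres gives every isotropic vector.
-/

set_option autoImplicit false
set_option linter.unusedSectionVars false
set_option linter.unusedSimpArgs false
set_option linter.style.haveILetI false

namespace CfsgLib.ExtFieldUnit

open Matrix Module GeomClasses

variable {F : Type*} [Field F] {n : ℕ}
variable {E : Type*} [Field E] [Algebra F E] [Module E (Fin n → F)] [IsScalarTower F E (Fin n → F)]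
variable {σ : F ≃+* F} {f : (Fin n → F) → (Fin n → F) → F} {τ : E ≃+* E} {ω : E →ₗ[F] F}
  {B : (Fin n → F) → (Fin n → F) → E} {M : Subgroup (GL (Fin n) F)}

/-- The centres of the transvections in the overgroup. -/
def IsCentre (σ : F ≃+* F) (f : (Fin n → F) → (Fin n → F) → F) (M : Subgroup (GL (Fin n) F))
    (z : Fin n → F) : Prop :=
  f z z = 0 ∧ ∀ γ : F, σ γ = -γ → formTv f z γ ∈ M

namespace Setting

theorem InFK.mul {a b : E} (ha : InFK (F := F) τ a) (hb : InFK (F := F) τ b) : InFK (F := F) τ (a * b) := by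
  obtain ⟨t, s, hs, rfl⟩ := ha
  obtain ⟨t', s', hs', rfl⟩ := hb
  exact ⟨t * t', s * s', by rw [map_mul, hs, hs'], smul_mul_smul_comm t s t' s'⟩

theorem InFK.inv {a : E} (ha : InFK (F := F) τ a) : InFK (F := F) τ a⁻¹ := by
  obtain ⟨t, s, hs, rfl⟩ := ha
  exact ⟨t⁻¹, s⁻¹, by rw [map_inv₀, hs], by rw [Algebra.smul_def, Algebra.smul_def, mul_inv, map_inv₀]⟩

theorem InFK.neg {a : E} (ha : InFK (F := F) τ a) : InFK (F := F) τ (-a) := by
  obtain ⟨t, s, hs, rfl⟩ := ha
  exact ⟨-t, s, hs, by rw [neg_smul]⟩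

theorem inFK_of_fixed {a : E} (ha : τ a = a) : InFK (F := F) τ a := ⟨1, a, ha, (one_smul F a).symm⟩

variable (S : Setting σ f τ ω B M)
include S

theorem f_self_of_iso {z : Fin n → F} (hz : B z z = 0) : f z z = 0 := by rw [S.f_eq, hz, map_zero]

theorem centre_move {z : Fin n → F} {g : GL (Fin n) F} (hg : g ∈ M) (hz : IsCentre σ f M z) :
    IsCentre σ f M ((g : Matrix (Fin n) (Fin n) F) *ᵥ z) := by
  refine ⟨by rw [S.isom g hg, hz.1], fun γ hγ => ?_⟩
  have e : formTv f ((g : Matrix (Fin n) (Fin n) F) *ᵥ z) γ = g * formTv f z γ * g⁻¹ := gl_ext fun x => by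
    rw [gl_mul_mulVec, gl_mul_mulVec, Unit.formTv_mulVec S.herm (by rw [S.isom g hg, hz.1]),
      Unit.formTv_mulVec S.herm hz.1, mulVec_add, mulVec_smul, gl_mulVec_inv_mulVec, S.f_inv hg]
  rw [e]
  exact M.mul_mem (M.mul_mem hg (hz.2 γ hγ)) (M.inv_mem hg)

theorem centre_moves {y z : Fin n → F} (h : Moves E M y z) (hy : IsCentre σ f M y) : IsCentre σ f M z := by
  obtain ⟨g, hg, -, rfl⟩ := h
  exact S.centre_move hg hy

theorem centre_zero : IsCentre σ f M (0 : Fin n → F) := by
  refine ⟨Unit.zero_left S.herm 0, fun γ _ => ?_⟩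
  rw [show formTv f (0 : Fin n → F) γ = 1 from gl_ext fun x => by
    rw [Unit.formTv_mulVec S.herm (Unit.zero_left S.herm 0)]; simp]
  exact M.one_mem

theorem centre_smul {z : Fin n → F} (hz : IsCentre σ f M z) (t : F) : IsCentre σ f M (t • z) := by
  refine ⟨by rw [Unit.smul_left S.herm, Unit.smul_right S.herm, hz.1, mul_zero, mul_zero], fun γ hγ => ?_⟩
  rw [Unit.formTv_smul S.herm t hz.1]
  exact hz.2 _ (by rw [map_mul, map_mul, S.sigma_sigma, hγ]; ring)

/-- An isotropic vector on a secant of two centres is a centre. -/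
theorem secant {z z' : Fin n → F} (hz : IsCentre σ f M z) (hz' : IsCentre σ f M z') (h : f z z' ≠ 0) (a : F)
    (ha : f (z + a • z') (z + a • z') = 0) : IsCentre σ f M (z + a • z') := by
  set γ := a / f z z' with hγ
  rw [Unit.self_add_smul S.herm, hz.1, hz'.1, mul_zero, zero_add, zero_add, map_mul,
    Unit.conj_form S.herm z' z] at ha
  have hzz : f z' z = σ (f z z') := (Unit.conj_form S.herm z z').symm
  rw [hzz] at ha
  have hne : σ (f z z') ≠ 0 := by simpa using h
  have hγs : σ γ = -γ := by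
    rw [hγ, map_div₀]
    field_simp
    linear_combination ha
  have := S.centre_move (hz'.2 γ hγs) hz
  rwa [Unit.formTv_mulVec S.herm hz'.1, hγ, div_mul_cancel₀ _ h] at this

/-- A pair on whose secant every member is isotropic is perpendicular. -/
theorem polar {x y : Fin n → F} (hy : B y y = 0) (h : ∀ c : E, B (x + c • y) (x + c • y) = 0) : B x y = 0 := by
  by_contra hne
  obtain ⟨d, hd⟩ := Unit.exists_trace_ne_zero S.tau_ne
  have h0 := h 0
  rw [zero_smul, add_zero] at h0
  have h1 := h (τ (d / B x y))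
  have hne' : τ (B x y) ≠ 0 := by simpa using hne
  rw [S.B_add_left, S.B_add_right, S.B_add_right, S.B_left, S.B_left, S.B_right, S.B_right, S.B_herm x y, h0, hy,
    S.tau_tau, map_div₀, div_mul_cancel₀ _ hne, div_mul_cancel₀ _ hne', mul_zero, mul_zero, add_zero, zero_add] at h1
  exact hd h1

/-- An anisotropic vector perpendicular to a non-degenerate pair. -/
theorem exists_aniso_perp {w w' : Fin n → F} (hw : B w w = 0) (hw' : B w' w' = 0) (hww : B w w' ≠ 0)
    (hdim : 3 ≤ finrank E (Fin n → F)) : ∃ y, B y w = 0 ∧ B y w' = 0 ∧ B y y ≠ 0 := by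
  haveI := S.finV
  by_contra hc
  push Not at hc
  obtain ⟨y, hy, hy0⟩ := (Submodule.ne_bot_iff _).1 (LinearMap.ker_ne_bot_of_finrank_lt
    (f := (S.Bl w 1).prod (S.Bl w' 1)) (by rw [Module.finrank_prod, Module.finrank_self]; omega))
  rw [LinearMap.mem_ker] at hy
  replace hy : B y w = 0 ∧ B y w' = 0 := by simpa [S.Bl_apply] using hy
  refine hy0 (S.nondeg fun x => ?_)
  have hne : τ (B w w') ≠ 0 := by simpa using hww
  have hw'w : B w' w = τ (B w w') := S.B_herm w w'
  set a := B x w' / B w w' with ha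
  set b := B x w / τ (B w w') with hb
  set x₁ := x - a • w - b • w' with hx₁
  have e1 : B x₁ w = 0 := by
    rw [hx₁, S.B_sub_left, S.B_sub_left, S.B_left, S.B_left, hw, hw'w, hb, div_mul_cancel₀ _ hne, mul_zero,
      sub_zero, sub_self]
  have e2 : B x₁ w' = 0 := by
    rw [hx₁, S.B_sub_left, S.B_sub_left, S.B_left, S.B_left, hw', ha, div_mul_cancel₀ _ hww, mul_zero, sub_self,
      sub_zero]
  have e3 : B y x₁ = 0 := S.polar (hc x₁ e1 e2) fun c => hc _
    (by rw [S.B_add_left, S.B_left, hy.1, e1, mul_zero, add_zero])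
    (by rw [S.B_add_left, S.B_left, hy.2, e2, mul_zero, add_zero])
  rw [hx₁, S.B_sub_right, S.B_sub_right, S.B_right, S.B_right, hy.1, hy.2, mul_zero, mul_zero, sub_zero,
    sub_zero] at e3
  exact e3

/-- Anisotropic vectors have anisotropic perpendicular vectors. -/
theorem exists_aniso_perp_one {v : Fin n → F} (hv : B v v ≠ 0) : ∃ y, B y v = 0 ∧ B y y ≠ 0 := by
  haveI := S.finV
  haveI := S.fin
  by_contra hc
  push Not at hc
  have htower := Module.finrank_mul_finrank F E (Fin n → F)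
  rw [Module.finrank_fintype_fun_eq_card, Fintype.card_fin] at htower
  obtain ⟨y, hy, hy0⟩ := (Submodule.ne_bot_iff _).1 (LinearMap.ker_ne_bot_of_finrank_lt (f := S.Bl v 1) (by
    rw [Module.finrank_self]
    by_contra hle
    have h4 := Nat.mul_le_mul_left (finrank F E) (show finrank E (Fin n → F) ≤ 1 by omega)
    have := S.big
    have := S.prime.pos
    omega))
  rw [LinearMap.mem_ker, S.Bl_apply, one_mul] at hy
  refine hy0 (S.nondeg fun x => ?_)
  set x₁ := x - (B x v / B v v) • v with hx₁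
  have e1 : B x₁ v = 0 := by rw [hx₁, S.B_sub_left, S.B_left, div_mul_cancel₀ _ hv, sub_self]
  have e3 : B y x₁ = 0 := S.polar (hc x₁ e1) fun c => hc _
    (by rw [S.B_add_left, S.B_left, hy, e1, mul_zero, add_zero])
  rwa [hx₁, S.B_sub_right, S.B_right, hy, mul_zero, sub_zero] at e3

/-- If the vectors isotropic for the extended form are centres, so is every isotropic vector. -/
theorem centre_all_of_iso [Fintype F] (h : ∀ z, B z z = 0 → IsCentre σ f M z) {v : Fin n → F} (hv : f v v = 0) :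
    IsCentre σ f M v := by
  haveI := S.fin
  haveI := S.finiteE
  haveI : Fintype E := Fintype.ofFinite E
  by_cases hvv : B v v = 0
  · exact h v hvv
  obtain ⟨y, hyv, hyy⟩ := S.exists_aniso_perp_one hvv
  have hvy : B v y = 0 := by rw [S.B_herm, hyv, map_zero]
  obtain ⟨ν, hν⟩ := Unit.exists_norm S.tau_ne S.tau_tau
    (show τ (-(B v v / B y y)) = -(B v v / B y y) by rw [map_neg, map_div₀, S.B_self_fixed, S.B_self_fixed])
  obtain ⟨e₀, he₀⟩ := Unit.exists_moved S.tau_ne
  have he₀' : τ e₀ ≠ 0 := by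
    simpa using (show e₀ ≠ 0 from fun h0 => he₀ (by rw [h0, map_zero]))
  set ε := e₀ / τ e₀ with hε
  have hεn : ε * τ ε = 1 := by
    have : e₀ ≠ 0 := fun h0 => he₀ (by rw [h0, map_zero])
    rw [hε, map_div₀, S.tau_tau]; field_simp
  have hε1 : ε ≠ 1 := fun h1 => he₀ (eq_of_div_eq_one h1).symm
  have hε' : 1 - τ ε ≠ 0 := fun h0 => hε1 (by
    have := congrArg τ (sub_eq_zero.1 h0); rw [map_one, S.tau_tau] at this; exact this.symm)
  have hprod : ∀ a b : E, B (v + a • y) (v + b • y) = B v v + a * τ b * B y y := fun a b => by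
    rw [S.B_add_left, S.B_add_right, S.B_add_right, S.B_left, S.B_left, S.B_right, S.B_right, hvy, hyv,
      mul_zero, mul_zero, add_zero, zero_add, mul_assoc]
  set z₁ := v + ν • y with hz₁
  set z₂ := v + (ν * ε) • y with hz₂
  have h11 : B z₁ z₁ = 0 := by rw [hz₁, hprod, hν, neg_mul, div_mul_cancel₀ _ hyy, add_neg_cancel]
  have h22 : B z₂ z₂ = 0 := by
    rw [hz₂, hprod, map_mul, mul_mul_mul_comm, hεn, mul_one, hν, neg_mul, div_mul_cancel₀ _ hyy, add_neg_cancel]
  have h12 : B z₁ z₂ ≠ 0 := by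
    rw [hz₁, hz₂, hprod, map_mul, ← mul_assoc, hν,
      show B v v + -(B v v / B y y) * τ ε * B y y = B v v * (1 - τ ε) by field_simp; ring]
    exact mul_ne_zero hvv hε'
  have hεm : ε - 1 ≠ 0 := sub_ne_zero.2 hε1
  set x := (ε / (ε - 1)) • z₁ with hx
  set y' := (-(1 / (ε - 1))) • z₂ with hy'
  have hiso : ∀ (a : E) {z : Fin n → F}, B z z = 0 → B (a • z) (a • z) = 0 := fun a z hz => by
    rw [S.B_left, S.B_right, hz, mul_zero, mul_zero]
  have hsum : x + y' = v := by
    rw [hx, hy', hz₁, hz₂, smul_add, smul_add, smul_smul, smul_smul, add_add_add_comm, ← add_smul, ← add_smul,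
      show ε / (ε - 1) + -(1 / (ε - 1)) = 1 by field_simp; ring,
      show ε / (ε - 1) * ν + -(1 / (ε - 1)) * (ν * ε) = 0 by field_simp; ring, one_smul, zero_smul, add_zero]
  by_cases hxy : f x y' = 0
  swap
  · have := S.secant (h x (hiso _ h11)) (h y' (hiso _ h22)) hxy 1 (by rw [one_smul, hsum, hv])
    rwa [one_smul, hsum] at this
  obtain ⟨θ, hθ0, hθ⟩ := S.exists_theta
  obtain ⟨A₀, hA₀⟩ : ∃ A : E, ω A = θ := by
    obtain ⟨e, he⟩ : ∃ e, ω e ≠ 0 := by
      by_contra hc; push Not at hc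
      exact S.omega_ne (LinearMap.ext hc)
    exact ⟨(θ / ω e) • e, by rw [map_smul, smul_eq_mul, div_mul_cancel₀ _ he]⟩
  have h1y : B z₁ y' ≠ 0 := by
    rw [hy', S.B_right]
    exact mul_ne_zero ((map_ne_zero τ).2 (neg_ne_zero.2 (one_div_ne_zero hεm))) h12
  set x' := (A₀ / B z₁ y') • z₁ with hx'
  have hx'y : f x' y' = θ := by rw [S.f_eq, hx', S.B_left, div_mul_cancel₀ _ h1y, hA₀]
  have hy'x' : f y' x' = -θ := by rw [← Unit.conj_form S.herm, hx'y, hθ]
  have hq : f (x' + y') (x' + y') = 0 := by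
    rw [Unit.add_left S.herm, Unit.add_right S.herm, Unit.add_right S.herm, S.f_self_of_iso (hiso _ h11),
      S.f_self_of_iso (hiso _ h22), hx'y, hy'x']
    ring
  have hqC : IsCentre σ f M (x' + y') := by
    have := S.secant (h x' (hiso _ h11)) (h y' (hiso _ h22)) (by rw [hx'y]; exact hθ0) 1 (by rw [one_smul, hq])
    rwa [one_smul] at this
  have hd : x - x' = (ε / (ε - 1) - A₀ / B z₁ y') • z₁ := by rw [hx, hx', sub_smul]
  have hfq : f (x - x') (x' + y') = -θ := by
    rw [Unit.add_right S.herm, Unit.sub_left S.herm x x' y', hxy, hx'y, S.f_eq, hd]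
    simp only [hx', S.B_left, S.B_right, h11, mul_zero, map_zero]
    ring
  have := S.secant (h (x - x') (by rw [hd]; exact hiso _ h11)) hqC (by rw [hfq, neg_ne_zero]; exact hθ0) 1
    (by rw [one_smul, show x - x' + (x' + y') = v by rw [← hsum]; abel, hv])
  rwa [one_smul, show x - x' + (x' + y') = v by rw [← hsum]; abel] at this

theorem norm_tau (x : E) : Algebra.norm F (τ x) = σ (Algebra.norm F x) := by
  rw [Algebra.norm_eq_of_equiv_equiv σ τ (RingHom.ext fun t => (S.tau_alg t).symm) x, RingEquiv.apply_symm_apply]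

/-- A multiplier of fixed norm moves the line along itself. -/
theorem moves_norm {w w' : Fin n → F} (hw : B w w = 0) (hw' : B w' w' = 0) {θ : E} (hθ0 : θ ≠ 0)
    (hθ : τ θ = -θ) (hww : B w w' = θ) {k : E} (hk : k ≠ 0)
    (hN : σ (Algebra.norm F k) = Algebra.norm F k) : Moves E M w (k • w) := by
  haveI := S.fin
  obtain ⟨g, hgi, hgl, hdet, hgw⟩ := S.exists_torus hw hw' hθ0 hθ hww (k := k) (k' := τ k⁻¹)
    (by rw [S.tau_tau, mul_inv_cancel₀ hk])
  refine ⟨g, S.cent g hgi hgl ?_, hgl, hgw⟩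
  have hN0 : Algebra.norm F k ≠ 0 := Algebra.norm_ne_zero_iff.2 hk
  rw [hdet, map_mul, S.norm_tau, eq_inv_of_mul_eq_one_right
    (show Algebra.norm F k * Algebra.norm F k⁻¹ = 1 by rw [← map_mul, mul_inv_cancel₀ hk, map_one]),
    map_inv₀ σ, hN, mul_inv_cancel₀ hN0]

/-- With a third dimension every multiplier occurs. -/
theorem moves_all [Fintype F] {w w' : Fin n → F} (hw : B w w = 0) (hw' : B w' w' = 0) {θ : E} (hθ0 : θ ≠ 0)
    (hθ : τ θ = -θ) (hww : B w w' = θ) (hdim : 3 ≤ finrank E (Fin n → F)) {k : E} (hk : k ≠ 0) :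
    Moves E M w (k • w) := by
  haveI := S.fin
  obtain ⟨y, hyw, -, hyy⟩ := S.exists_aniso_perp hw hw' (by rw [hww]; exact hθ0) hdim
  obtain ⟨g, hgi, hgl, hdet, hgw⟩ := S.exists_torus hw hw' hθ0 hθ hww (k := k) (k' := τ k⁻¹)
    (by rw [S.tau_tau, mul_inv_cancel₀ hk])
  have hk' : τ k ≠ 0 := by simpa using hk
  obtain ⟨g', hgi', hgl', hdet', hfix⟩ := S.exists_scaling hyy (ν := τ k / k)
    (by rw [map_div₀, S.tau_tau]; field_simp)
  refine ⟨g * g', S.cent _ (hgi.mul hgi') (hgl.mul hgl') ?_, hgl.mul hgl', ?_⟩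
  · rw [Units.val_mul, det_mul, hdet, hdet', ← map_mul, map_inv₀,
      show k * (τ k)⁻¹ * (τ k / k) = 1 by field_simp, map_one]
  · rw [gl_mul_mulVec, hfix w (by rw [S.B_herm, hyw, map_zero]), hgw]

/-- Two multipliers give the line through them. -/
theorem rule [Fintype F] {w w' : Fin n → F} (hw : B w w = 0) (hw' : B w' w' = 0) {θ : F} (hθ0 : θ ≠ 0)
    (hθ : σ θ = -θ) (hww : B w w' = algebraMap F E θ) (h3 : ∃ a : F, σ a = a ∧ a ≠ 0 ∧ a ≠ 1)
    {x y : E} (hx : IsCentre σ f M (x • w)) (hy : IsCentre σ f M (y • w)) (hx0 : x ≠ 0) (hy0 : y ≠ 0)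
    (hxy : ¬ InFK (F := F) τ (y / x)) (μ : F) : IsCentre σ f M ((x + μ • y) • w) := by
  by_cases hμ : μ = 0
  · rw [hμ, zero_smul, add_zero]; exact hx
  have hθE : algebraMap F E θ ≠ 0 := by simpa using hθ0
  have hθs : τ (algebraMap F E θ) = -algebraMap F E θ := by rw [S.tau_alg, hθ, map_neg]
  have hwmove : Moves E M w w' := S.moves_step hw hw' (by rw [hww]; exact hθE) (by rw [hww, hθs])
  have hw0 : w ≠ 0 := fun h0 => hθE (by rw [← hww, h0, S.B_zero_left])
  -- the case of independent values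
  have main : ∀ {x y : E}, IsCentre σ f M (x • w) → IsCentre σ f M (y • w) → x ≠ 0 →
      ¬ InFK (F := F) τ (y / x) → (∀ α : F, x * τ x ≠ α • (y * τ x) + σ α • τ (y * τ x)) → ∀ μ : F, μ ≠ 0 →
      IsCentre σ f M ((x + μ • y) • w) := by
    intro x y hx hy hx0 hxy hind μ hμ
    have hτx : τ x ≠ 0 := by simpa using hx0
    set N := x * τ x with hN
    have hNf : τ N = N := by rw [hN, map_mul, S.tau_tau, mul_comm]
    have hN0 : N ≠ 0 := mul_ne_zero hx0 hτx
    have he : ¬ InFK (F := F) τ (y * τ x) := fun h => hxy (by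
      have := h.mul (inFK_of_fixed (F := F) (τ := τ) (a := N⁻¹) (by rw [map_inv₀, hNf]))
      rwa [hN, show y * τ x * (x * τ x)⁻¹ = y / x by field_simp] at this)
    obtain ⟨t, htf, ht0, htμ⟩ : ∃ t : F, σ t = t ∧ t ≠ 0 ∧ t + μ * σ μ ≠ 0 := by
      obtain ⟨a, haf, ha0, ha1⟩ := h3
      by_cases h1 : 1 + μ * σ μ = 0
      · exact ⟨a, haf, ha0, fun h => ha1 (by linear_combination h - h1)⟩
      · exact ⟨1, map_one σ, one_ne_zero, h1⟩
    obtain ⟨s, hs, hst, hsν⟩ := S.exists_fixed_val hNf he hind htf (σ μ)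
    have hs0 : s ≠ 0 := fun h0 => ht0 (by rw [← hst, h0, zero_mul, map_zero])
    have hz' : IsCentre σ f M ((x * s) • w') := by
      refine S.centre_moves (hwmove.smul (x * s)) ?_
      have := S.centre_moves ((S.moves_fixed hw0 hw hs0 hs).smul x) hx
      rwa [smul_smul] at this
    have hf1 : f (x • w) ((x * s) • w') = θ * t := by
      rw [S.f_eq, S.B_left, S.B_right, hww, map_mul τ, hs, ← hst, hN,
        show x * (τ x * s * algebraMap F E θ) = algebraMap F E θ * (s * (x * τ x)) by ring, ← Algebra.smul_def,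
        map_smul, smul_eq_mul]
    have hf2 : f (y • w) ((x * s) • w') = θ * σ μ := by
      rw [S.f_eq, S.B_left, S.B_right, hww, map_mul τ, hs, ← hsν,
        show y * (τ x * s * algebraMap F E θ) = algebraMap F E θ * (s * (y * τ x)) by ring, ← Algebra.smul_def,
        map_smul, smul_eq_mul]
    have hiso : ∀ (a : E) {z : Fin n → F}, B z z = 0 → f (a • z) (a • z) = 0 := fun a z hz => by
      rw [S.f_eq, S.B_left, S.B_right, hz, mul_zero, mul_zero, map_zero]
    set z := x • w with hz
    set z' := (x * s) • w' with hz'def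
    set x' := y • w with hx'
    have hzx' : f z x' = 0 := by rw [hz, hx', S.f_eq, S.B_left, S.B_right, hw, mul_zero, mul_zero, map_zero]
    have hz'z : f z' z = -(θ * t) := by rw [← Unit.conj_form S.herm, hf1, map_mul, hθ, htf, neg_mul]
    have hz'x' : f z' x' = -(θ * μ) := by rw [← Unit.conj_form S.herm, hf2, map_mul, hθ, S.sigma_sigma, neg_mul]
    have hzz : f z z = 0 := hiso _ hw
    have hxx : f x' x' = 0 := hiso _ hw
    have hz'z' : f z' z' = 0 := hiso _ hw'
    have hx'z : f x' z = 0 := Unit.eq_zero_comm S.herm hzx'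
    have hp : IsCentre σ f M (z + (1 : F) • z') := S.secant hx hz' (by rw [hf1]; exact mul_ne_zero hθ0 ht0) 1 (by
      rw [one_smul, Unit.add_left S.herm, Unit.add_right S.herm, Unit.add_right S.herm, hzz, hz'z', hf1, hz'z]
      ring)
    rw [one_smul] at hp
    have hq : IsCentre σ f M (z + z' + μ • x') := S.secant hp hy (by
        rw [Unit.add_left S.herm, hzx', hz'x', zero_add, neg_ne_zero]; exact mul_ne_zero hθ0 hμ) μ (by
      rw [Unit.self_add_smul S.herm, Unit.add_right S.herm x', hx'z, hf2, hxx, map_mul, map_add, map_mul,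
        Unit.add_left S.herm, Unit.add_right S.herm, Unit.add_right S.herm, hzz, hz'z', hf1, hz'z, hθ,
        S.sigma_sigma, map_zero]
      ring)
    have e : z + z' + μ • x' + (-1 : F) • z' = (x + μ • y) • w := by
      rw [hz, hx', add_smul x, smul_assoc, neg_one_smul]; abel
    have hend := S.secant hq hz' (by
      rw [Unit.add_left S.herm, Unit.add_left S.herm, Unit.smul_left S.herm, hf1, hz'z', hf2, add_zero,
        show θ * t + μ * (θ * σ μ) = θ * (t + μ * σ μ) by ring]
      exact mul_ne_zero hθ0 htμ) (-1) (by rw [e]; exact hiso _ hw)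
    rwa [e] at hend
  by_cases hind : ∀ α : F, x * τ x ≠ α • (y * τ x) + σ α • τ (y * τ x)
  · exact main hx hy hx0 hxy hind μ hμ
  push Not at hind
  obtain ⟨α, hα⟩ := hind
  have hxy' : ¬ InFK (F := F) τ (x / y) := fun h => hxy (by
    have := h.inv
    rwa [inv_div] at this)
  by_cases hind' : ∀ β : F, y * τ y ≠ β • (x * τ y) + σ β • τ (x * τ y)
  · have h := main hy hx hy0 hxy' hind' μ⁻¹ (inv_ne_zero hμ)
    have e : (x + μ • y) • w = μ • ((y + μ⁻¹ • x) • w) := by
      rw [← smul_assoc, smul_add, smul_smul, mul_inv_cancel₀ hμ, one_smul, add_comm]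
    rw [e]
    exact S.centre_smul h μ
  push Not at hind'
  obtain ⟨β, hβ⟩ := hind'
  exfalso
  -- the ratio would be quadratic over the ground field
  haveI := S.fin
  set d := y / x with hd
  have hτx : τ x ≠ 0 := by simpa using hx0
  have hτy : τ y ≠ 0 := by simpa using hy0
  rw [map_mul, S.tau_tau, Algebra.smul_def, Algebra.smul_def] at hα hβ
  set A := algebraMap F E α
  set A' := algebraMap F E (σ α)
  set C := algebraMap F E β
  set C' := algebraMap F E (σ β)
  have hA' : A' * τ d = 1 - A * d := by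
    rw [hd, map_div₀]; field_simp
    linear_combination -hα
  have hC : d * τ d = C * τ d + C' * d := by
    rw [hd, map_div₀]; field_simp
    linear_combination hβ
  have hquad : A * (d * d) = (1 + A * C - A' * C') * d - C := by
    linear_combination (d - C) * hA' - A' * hC
  have hα0 : α ≠ 0 := fun h0 => hx0 (by
    have hA0 : A = 0 := by simp [A, h0]
    have hA0' : A' = 0 := by simp [A', h0]
    rw [hA0, hA0', zero_mul, zero_mul, add_zero] at hα
    exact (mul_eq_zero.1 hα).resolve_right hτx)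
  set P : Submodule F E := Submodule.span F {1, d} with hP
  have h1P : (1 : E) ∈ P := Submodule.subset_span (Set.mem_insert _ _)
  have hdP : d ∈ P := Submodule.subset_span (Set.mem_insert_of_mem _ rfl)
  have hmul : ∀ a b : E, a ∈ P → b ∈ P → a * b ∈ P := by
    intro a b ha hb
    rw [hP, Submodule.mem_span_pair] at ha hb
    obtain ⟨a₀, a₁, rfl⟩ := ha
    obtain ⟨b₀, b₁, rfl⟩ := hb
    have hdd : d * d = ((1 + α * β - σ α * σ β) / α) • d + (-(β / α)) • (1 : E) := by
      have hA : A ≠ 0 := by simpa [A] using hα0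
      rw [Algebra.smul_def, Algebra.smul_def, map_neg, map_div₀, map_div₀, map_sub, map_add, map_mul, map_mul,
        map_one]
      change d * d = (1 + A * C - A' * C') / A * d + -(C / A) * 1
      field_simp
      linear_combination hquad
    simp only [add_mul, mul_add, smul_mul_smul_comm, mul_one, one_mul, hdd, smul_add, smul_smul]
    repeat' apply P.add_mem
    all_goals exact P.smul_mem _ (by assumption)
  haveI := Subalgebra.isSimpleOrder_of_finrank_prime F E S.prime
  rcases eq_bot_or_eq_top (P.toSubalgebra h1P hmul) with hb | ht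
  · have : d ∈ (⊥ : Subalgebra F E) := hb ▸ (show d ∈ P.toSubalgebra h1P hmul from hdP)
    obtain ⟨t, ht⟩ := Algebra.mem_bot.1 this
    exact hxy ⟨t, 1, map_one τ, by rw [← ht, Algebra.smul_def, mul_one]⟩
  · have h2 : P = ⊤ := eq_top_iff.2 fun e _ => (ht ▸ Algebra.mem_top : e ∈ P.toSubalgebra h1P hmul)
    have h4 : finrank F P ≤ 2 := by
      classical
      exact (finrank_span_le_card _).trans (by
        rw [Set.toFinset_insert, Set.toFinset_singleton]; exact (Finset.card_insert_le _ _).trans (by simp))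
    rw [h2, finrank_top] at h4
    obtain ⟨j, hj⟩ := S.odd
    have := S.prime.two_le
    omega

/-- With a multiplier outside the fixed multiples, every multiplier gives a centre. -/
theorem centre_span [Fintype F] {w w' : Fin n → F} (hw : B w w = 0) (hw' : B w' w' = 0) {θ : F} (hθ0 : θ ≠ 0)
    (hθ : σ θ = -θ) (hww : B w w' = algebraMap F E θ) (h3 : ∃ a : F, σ a = a ∧ a ≠ 0 ∧ a ≠ 1)
    (hwC : IsCentre σ f M w) {k₁ : E} (hk₁ : IsCentre σ f M (k₁ • w)) (hk₁' : ¬ InFK (F := F) τ k₁) (e : E) :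
    IsCentre σ f M (e • w) := by
  classical
  haveI := S.finiteE
  haveI : Fintype E := Fintype.ofFinite E
  have hw0 : w ≠ 0 := fun h0 => hθ0 ((algebraMap F E).injective (by rw [map_zero, ← hww, h0, S.B_zero_left]))
  have hk10 : k₁ ≠ 0 := fun h0 => hk₁' ⟨0, 0, map_zero τ, by rw [h0, smul_zero]⟩
  have hfk : ∀ u k : E, InFK (F := F) τ u → IsCentre σ f M (k • w) → IsCentre σ f M ((u * k) • w) := by
    rintro _ k ⟨t, s, hs, rfl⟩ hk
    rw [smul_mul_assoc, smul_assoc]
    refine S.centre_smul ?_ t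
    by_cases hs0 : s = 0
    · rw [hs0, zero_mul, zero_smul]; exact S.centre_zero
    have := S.centre_moves ((S.moves_fixed hw0 hw hs0 hs).smul k) hk
    rwa [smul_smul, mul_comm] at this
  have hC1 : ∀ u : E, InFK (F := F) τ u → IsCentre σ f M (u • w) := fun u hu => by
    have := hfk u 1 hu (by rwa [one_smul])
    rwa [mul_one] at this
  obtain ⟨l, hl⟩ := Unit.exists_moved S.herm.ne_refl
  obtain ⟨a, b, ha, hb, rfl⟩ := S.exists_parts hl e
  by_cases ha0 : a = 0
  · rw [ha0, zero_add]; exact hC1 _ ⟨l, b, hb, rfl⟩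
  by_cases hb0 : l • b = 0
  · rw [hb0, add_zero]; exact hC1 _ (inFK_of_fixed ha)
  by_cases hsum : a + l • b = 0
  · rw [hsum, zero_smul]; exact S.centre_zero
  set c₀ := l • b with hc₀
  have hcI : InFK (F := F) τ c₀ := ⟨l, b, hb, rfl⟩
  have haI : InFK (F := F) τ a := inFK_of_fixed ha
  have hnot : ∀ {p q : E}, InFK (F := F) τ p → InFK (F := F) τ q → p ≠ 0 → q ≠ 0 →
      ¬ InFK (F := F) τ (q * k₁ / p) := fun {p q} hp hq hp0 hq0 h => hk₁' (by
    have := (h.mul hp).mul hq.inv
    rwa [div_mul_cancel₀ _ hp0, mul_right_comm, mul_inv_cancel₀ hq0, one_mul] at this)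
  have hden : ∀ u, InFK (F := F) τ u → u ≠ 0 → a + u * k₁ ≠ 0 := fun u hu hu0 h =>
    hnot haI.neg hu (neg_ne_zero.2 ha0) hu0 (by
      rw [eq_neg_of_add_eq_zero_right h, div_self (neg_ne_zero.2 ha0)]
      exact inFK_of_fixed (map_one τ))
  -- a good intermediate multiplier
  obtain ⟨u, hu, hu0, hgood⟩ : ∃ u, InFK (F := F) τ u ∧ u ≠ 0 ∧
      ¬ InFK (F := F) τ ((c₀ - u * k₁) / (a + u * k₁)) := by
    by_contra hc
    push Not at hc
    set I := Finset.univ.filter (fun z : E => InFK (F := F) τ z) with hI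
    have hmem : ∀ z, z ∈ I ↔ InFK (F := F) τ z := fun z => by simp [hI]
    have h0I : (0 : E) ∈ I := (hmem 0).2 (inFK_of_fixed (map_zero τ))
    have hm1 : (-1 : E) ∈ I := (hmem _).2 (inFK_of_fixed (map_one τ)).neg
    have hq : c₀ / a ∈ I := (hmem _).2 (by rw [div_eq_mul_inv]; exact hcI.mul haI.inv)
    have hne : c₀ / a ≠ -1 := fun h => hsum (by
      rw [div_eq_iff ha0] at h; rw [h]; ring)
    have hcard := Finset.card_le_card_of_injOn (fun u => (c₀ - u * k₁) / (a + u * k₁))
      (s := I.erase 0) (t := (I.erase (-1)).erase (c₀ / a)) (fun u hu => by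
        simp only [Finset.coe_erase, Set.mem_diff, Set.mem_singleton_iff, Finset.mem_coe, hmem] at hu ⊢
        obtain ⟨hu, hu0⟩ := hu
        have hd := hden u hu hu0
        refine ⟨⟨hc u hu hu0, fun h => hsum ?_⟩, fun h => ?_⟩
        · rw [div_eq_iff hd] at h; linear_combination h
        · rw [div_eq_div_iff hd ha0] at h
          have h' : u * k₁ * (a + c₀) = 0 := by linear_combination -h
          exact (mul_ne_zero (mul_ne_zero hu0 hk10) hsum) h')
      (fun u hu u' hu' h => by
        simp only [Finset.coe_erase, Set.mem_diff, Set.mem_singleton_iff, Finset.mem_coe, hmem] at hu hu'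
        beta_reduce at h
        rw [div_eq_div_iff (hden u hu.1 hu.2) (hden u' hu'.1 hu'.2)] at h
        have h' : (u - u') * (k₁ * (a + c₀)) = 0 := by linear_combination -h
        exact sub_eq_zero.1 ((mul_eq_zero.1 h').resolve_right (mul_ne_zero hk10 hsum)))
    rw [Finset.card_erase_of_mem h0I, Finset.card_erase_of_mem (Finset.mem_erase.2 ⟨hne, hq⟩),
      Finset.card_erase_of_mem hm1] at hcard
    have : 2 ≤ I.card := Finset.one_lt_card.2 ⟨0, h0I, -1, hm1, by simp⟩
    omega
  have hu1 := hfk u k₁ hu hk₁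
  have h1 := S.rule hw hw' hθ0 hθ hww h3 (hC1 a haI) hu1 ha0 (mul_ne_zero hu0 hk10) (hnot haI hu ha0 hu0) 1
  have h2 := S.rule hw hw' hθ0 hθ hww h3 (hC1 c₀ hcI) hu1 hb0 (mul_ne_zero hu0 hk10) (hnot hcI hu hb0 hu0) (-1)
  rw [one_smul] at h1
  rw [neg_one_smul, ← sub_eq_add_neg] at h2
  have h3' := S.rule hw hw' hθ0 hθ hww h3 h1 h2 (hden u hu hu0) (fun h0 => hnot hcI hu hb0 hu0 (by
      rw [← sub_eq_zero.1 h0, div_self hb0]; exact inFK_of_fixed (map_one τ))) hgood 1
  rwa [one_smul, show a + u * k₁ + (c₀ - u * k₁) = a + c₀ by ring] at h3'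

/-- Every multiplier of a centre gives a centre. -/
theorem centre_scalar [Fintype F] {q : ℕ} (hF : Fintype.card F = q ^ 2) (hσ : ∀ t, σ t = t ^ q)
    (hex : q ≠ 2 ∨ finrank F E ≠ 3 ∨ n ≠ 2 * finrank F E)
    {w : Fin n → F} (hw0 : w ≠ 0) (hw : B w w = 0) (hwC : IsCentre σ f M w) (e : E) :
    IsCentre σ f M (e • w) := by
  classical
  haveI := S.fin
  haveI := S.finiteE
  haveI := S.finV
  haveI : Fintype E := Fintype.ofFinite E
  obtain ⟨θ, hθ0, hθ⟩ := S.exists_theta
  have hθE : algebraMap F E θ ≠ 0 := by simpa using hθ0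
  have hθs : τ (algebraMap F E θ) = -algebraMap F E θ := by rw [S.tau_alg, hθ, map_neg]
  obtain ⟨w', hww, hw'⟩ := S.exists_partner hw0 hw hθE
  have htower := Module.finrank_mul_finrank F E (Fin n → F)
  rw [Module.finrank_fintype_fun_eq_card, Fintype.card_fin] at htower
  by_cases he0 : e = 0
  · rw [he0, zero_smul]; exact S.centre_zero
  by_cases hdim : 3 ≤ finrank E (Fin n → F)
  · exact S.centre_moves (S.moves_all hw hw' hθE hθs hww hdim he0) hwC
  have hn : n = 2 * finrank F E := by
    have h2 : finrank E (Fin n → F) = 2 := by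
      by_contra h
      have h4 := Nat.mul_le_mul_left (finrank F E) (show finrank E (Fin n → F) ≤ 1 by omega)
      have := S.big
      have := S.prime.pos
      omega
    rw [← htower, h2, mul_comm]
  set r := finrank F E with hr
  -- powers of the degree
  have hpow : ∀ z : E, z ≠ 0 → ∀ u : E, InFK (F := F) τ u → IsCentre σ f M ((u * z ^ r) • w) := by
    rintro z hz _ ⟨t, s, hs, rfl⟩
    by_cases hs0 : s = 0
    · rw [hs0, smul_zero, zero_mul, zero_smul]; exact S.centre_zero
    have hN : algebraMap F E (Algebra.norm F z) ≠ 0 := by simpa using (Algebra.norm_ne_zero_iff (R := F)).2 hz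
    set k := z ^ r / algebraMap F E (Algebra.norm F z) with hk
    have hk1 : Algebra.norm F k = 1 := by
      have h2 : Algebra.norm F k * Algebra.norm F (algebraMap F E (Algebra.norm F z)) = Algebra.norm F (z ^ r) := by
        rw [← map_mul, hk, div_mul_cancel₀ _ hN]
      rw [Algebra.norm_algebraMap, map_pow] at h2
      exact mul_right_cancel₀ (pow_ne_zero r ((Algebra.norm_ne_zero_iff (R := F)).2 hz)) (h2.trans (one_mul _).symm)
    have hk0 : k ≠ 0 := div_ne_zero (pow_ne_zero _ hz) hN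
    have h1 := (S.moves_norm hw hw' hθE hθs hww hk0 (by rw [hk1, map_one])).trans
      ((S.moves_fixed hw0 hw hs0 hs).smul k)
    have h2 := S.centre_smul (S.centre_moves h1 hwC) (t * Algebra.norm F z)
    rw [smul_smul k s w, ← smul_assoc, Algebra.smul_def, map_mul, hk] at h2
    rw [Algebra.smul_def]
    convert h2 using 2
    field_simp
  -- the quotient map and its kernel
  let tu : Eˣ →* Eˣ := Units.map (τ : E →+* E).toMonoidHom
  let P : Eˣ →* Eˣ :=
    { toFun := fun x => x / tu x
      map_one' := by simp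
      map_mul' := fun x y => by rw [map_mul, mul_div_mul_comm] }
  have hP : ∀ x : Eˣ, ((P x : Eˣ) : E) = (x : E) / τ x := fun x => Units.val_div_eq_div_val _ _
  obtain ⟨l, hl⟩ := Unit.exists_moved S.herm.ne_refl
  let K₀ : Subfield E := RingHom.eqLocusField (τ : E →+* E) (RingHom.id E)
  have hK₀ : ∀ x : E, x ∈ K₀ ↔ τ x = x := fun x => Iff.rfl
  have hcardK : Nat.card K₀ = q ^ r := by
    have hb : Function.Bijective (fun p : K₀ × K₀ => (p.1 : E) + l • (p.2 : E)) := by
      refine ⟨fun p p' h => ?_, fun z => ?_⟩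
      · have h1 := congrArg τ h
        simp only [map_add, S.tau_smul, (hK₀ _).1 p.1.2, (hK₀ _).1 p.2.2, (hK₀ _).1 p'.1.2, (hK₀ _).1 p'.2.2] at h1
        beta_reduce at h
        have h2 : (l - σ l) • ((p.2 : E) - p'.2) = 0 := by
          simp only [sub_smul, smul_sub]
          linear_combination (norm := module) h - h1
        have h3 := sub_eq_zero.1 ((smul_eq_zero.1 h2).resolve_left (sub_ne_zero.2 (Ne.symm hl)))
        rw [h3, add_left_inj] at h
        exact Prod.ext (Subtype.ext h) (Subtype.ext h3)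
      · obtain ⟨a, b, ha, hb, rfl⟩ := S.exists_parts hl z
        exact ⟨(⟨a, ha⟩, ⟨b, hb⟩), rfl⟩
    have h1 := Nat.card_eq_of_bijective _ hb
    rw [Nat.card_prod, Module.natCard_eq_pow_finrank (K := F) (V := E), Nat.card_eq_fintype_card (α := F), hF, ← hr,
      ← pow_two, ← pow_mul, mul_comm 2, pow_mul] at h1
    exact Nat.pow_left_injective (by norm_num) h1
  have hcard : Nat.card P.range = q ^ r + 1 := by
    have hker : Nat.card P.ker = q ^ r - 1 := by
      rw [← hcardK, ← Nat.card_units]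
      refine Nat.card_congr
        { toFun := fun x => Units.mk0 (⟨(x : Eˣ), (hK₀ _).2 ?_⟩ : K₀) (fun h0 => Units.ne_zero (x : Eˣ) (congrArg Subtype.val h0))
          invFun := fun y => ⟨Units.map K₀.subtype.toMonoidHom y, MonoidHom.mem_ker.2 (Units.ext ?_)⟩
          left_inv := fun x => Subtype.ext (Units.ext rfl)
          right_inv := fun y => Units.ext rfl }
      · have := congrArg Units.val (MonoidHom.mem_ker.1 x.2)
        rw [hP, Units.val_one] at this
        exact (eq_of_div_eq_one this).symm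
      · rw [hP, Units.val_one]
        change ((y : K₀) : E) / τ (y : K₀) = 1
        rw [(hK₀ _).1 (y : K₀).2, div_self]
        exact fun h0 => Units.ne_zero y (Subtype.ext h0)
    have h1 : Nat.card P.ker * Nat.card P.range = Nat.card Eˣ := by
      rw [← P.ker.card_mul_index, Subgroup.index_ker]
    rw [hker, Nat.card_units, Module.natCard_eq_pow_finrank (K := F) (V := E), Nat.card_eq_fintype_card (α := F), hF,
      ← hr, ← pow_mul, mul_comm 2, pow_mul] at h1
    have hq : 1 < q ^ r := by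
      rw [← hcardK]
      exact Finite.one_lt_card
    have h2 : (q ^ r - 1) * (q ^ r + 1) = (q ^ r) ^ 2 - 1 := by
      rw [mul_comm, ← Nat.sq_sub_sq, one_pow]
    exact Nat.eq_of_mul_eq_mul_left (by omega) (h1.trans h2.symm)
  by_cases hcop : (Nat.card P.range).Coprime r
  · -- the degree is invertible on the quotient
    obtain ⟨⟨_, z, rfl⟩, hz⟩ := (powCoprime hcop).surjective ⟨P (Units.mk0 e he0), _, rfl⟩
    have h1 : (P z ^ r : Eˣ) = P (Units.mk0 e he0) := congrArg Subtype.val hz
    have h2 := congrArg Units.val h1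
    rw [Units.val_pow_eq_pow_val, hP, hP, Units.val_mk0, div_pow] at h2
    have hz0 : (z : E) ≠ 0 := z.ne_zero
    have hfix : τ (e / (z : E) ^ r) = e / (z : E) ^ r := by
      have hτe : τ e ≠ 0 := by simpa using he0
      have hτz : τ (z : E) ≠ 0 := by simpa using hz0
      rw [map_div₀, map_pow]
      rw [div_eq_div_iff (pow_ne_zero _ hτz) hτe] at h2
      field_simp
      linear_combination h2
    have h3 := hpow z hz0 _ (inFK_of_fixed hfix)
    rwa [div_mul_cancel₀ _ (pow_ne_zero _ hz0)] at h3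
  have hdvd : r ∣ q ^ r + 1 := by
    rw [← hcard]
    exact (S.prime.dvd_iff_not_coprime).2 fun h => hcop h.symm
  have hr3 : 3 ≤ r := by
    obtain ⟨j, hj⟩ := S.odd
    have := S.prime.two_le
    omega
  have hq3 : 3 ≤ q := by
    have h1 : 1 < q ^ 2 := hF ▸ Fintype.one_lt_card
    have h2 : 2 ≤ q := by
      by_contra h
      have := Nat.pow_le_pow_left (show q ≤ 1 by omega) 2
      omega
    by_contra h
    have hq2 : q = 2 := by omega
    subst hq2
    haveI : Fact r.Prime := ⟨S.prime⟩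
    have h4 : ((2 ^ r + 1 : ℕ) : ZMod r) = 0 := (ZMod.natCast_eq_zero_iff _ _).2 hdvd |>.trans rfl
    push_cast at h4
    rw [ZMod.pow_card] at h4
    have h5 : ((3 : ℕ) : ZMod r) = 0 := by
      push_cast
      linear_combination h4
    rw [ZMod.natCast_eq_zero_iff] at h5
    have h6 := (Nat.prime_dvd_prime_iff_eq S.prime Nat.prime_three).1 h5
    rcases hex with h | h | h <;> omega
  have hfixed : ∃ a : F, σ a = a ∧ a ≠ 0 ∧ a ≠ 1 := by
    by_contra hc
    push Not at hc
    have h01 : ∀ a : F, σ a = a → a = 0 ∨ a = 1 := fun a ha => by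
      by_cases h0 : a = 0
      · exact Or.inl h0
      · exact Or.inr (hc a ha h0)
    have hall : ∀ t : F, t ≠ 0 → t ^ (q + 1) = 1 := fun t ht => by
      rw [pow_succ', ← hσ]
      exact (h01 _ (by rw [map_mul, S.sigma_sigma, mul_comm])).resolve_left (mul_ne_zero ht (by simpa using ht))
    have hexp : Monoid.exponent Fˣ ∣ q + 1 := Monoid.exponent_dvd_of_forall_pow_eq_one fun t =>
      Units.ext (by rw [Units.val_pow_eq_pow_val, hall _ t.ne_zero, Units.val_one])
    rw [IsCyclic.exponent_eq_card, Nat.card_units, Nat.card_eq_fintype_card, hF] at hexp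
    have h2 := Nat.le_of_dvd (by omega) hexp
    have h3 : 3 * q ≤ q ^ 2 := by rw [pow_two]; exact Nat.mul_le_mul_right q hq3
    omega
  obtain ⟨k₁, hk₁, hk₁'⟩ : ∃ k₁ : E, IsCentre σ f M (k₁ • w) ∧ ¬ InFK (F := F) τ k₁ := by
    by_contra hc
    push Not at hc
    have hpow1 : ∀ u : P.range, u ^ (r * (q + 1)) = 1 := by
      rintro ⟨_, z, rfl⟩
      have hz0 : (z : E) ≠ 0 := z.ne_zero
      have h1 := hpow z hz0 1 (inFK_of_fixed (map_one τ))
      rw [one_mul] at h1
      obtain ⟨t, s, hs, hts⟩ := hc _ h1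
      have ht0 : t ≠ 0 := fun h0 => pow_ne_zero r hz0 (by rw [hts, h0, zero_smul])
      have hs0 : s ≠ 0 := fun h0 => pow_ne_zero r hz0 (by rw [hts, h0, smul_zero])
      have h2 : (σ t) ^ (q + 1) = t ^ (q + 1) := by
        rw [pow_succ', pow_succ', ← hσ (σ t), S.sigma_sigma, ← hσ t, mul_comm]
      have h3 : (τ ((z : E) ^ r)) ^ (q + 1) * s ^ 0 = ((z : E) ^ r) ^ (q + 1) := by
        rw [pow_zero, mul_one, hts, S.tau_smul, hs, Algebra.smul_def, Algebra.smul_def, mul_pow, mul_pow,
          ← map_pow (algebraMap F E), ← map_pow (algebraMap F E), h2]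
      apply Subtype.ext
      apply Units.ext
      rw [SubmonoidClass.coe_pow, Units.val_pow_eq_pow_val, hP, OneMemClass.coe_one, Units.val_one, div_pow,
        div_eq_one_iff_eq (pow_ne_zero _ (by simpa using hz0)), pow_mul, pow_mul, ← h3, pow_zero, mul_one, map_pow]
    have hexp : Monoid.exponent P.range ∣ r * (q + 1) := Monoid.exponent_dvd_of_forall_pow_eq_one hpow1
    rw [IsCyclic.exponent_eq_card, hcard] at hexp
    have h2 := Nat.le_of_dvd (by positivity) hexp
    have key : ∀ m, 3 ≤ m → m * (q + 1) < q ^ m + 1 := by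
      intro m hm
      induction m, hm using Nat.le_induction with
      | base => nlinarith
      | succ m hm ih =>
        have h4 : q ≤ q ^ m := Nat.le_self_pow (by omega) q
        rw [pow_succ]
        nlinarith
    have := key r hr3
    omega
  exact S.centre_span hw hw' hθ0 hθ hww hfixed hwC hk₁ hk₁' e

/-- One centre isotropic for the extended form makes every isotropic vector a centre. -/
theorem centre_all [Fintype F] {q : ℕ} (hF : Fintype.card F = q ^ 2) (hσ : ∀ t, σ t = t ^ q)
    (hex : q ≠ 2 ∨ finrank F E ≠ 3 ∨ n ≠ 2 * finrank F E)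
    {w : Fin n → F} (hw0 : w ≠ 0) (hw : B w w = 0) (hwC : IsCentre σ f M w) {v : Fin n → F} (hv : f v v = 0) :
    IsCentre σ f M v := by
  refine S.centre_all_of_iso (fun z hz => ?_) hv
  by_cases hz0 : z = 0
  · rw [hz0]; exact S.centre_zero
  obtain ⟨κ, hκ, hmove⟩ := S.moves_line hw0 hw hz0 hz
  have h := S.centre_moves (hmove.smul κ⁻¹) (S.centre_scalar hF hσ hex hw0 hw hwC κ⁻¹)
  rwa [smul_smul, inv_mul_cancel₀ hκ, one_smul] at h

end Setting

end CfsgLib.ExtFieldUnit
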