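import Cfsg.Agent.Lib.ExtFieldUnit.Semi

/-!
From a good triple to a unitary transvection of the ground field: the kernel is pushed up until the image
is a line, and a commutator of root elements then gives the transvection.
-/

set_option autoImplicit false
set_option linter.unusedSectionVars false
set_option linter.unusedSimpArgs false
set_option linter.style.haveILetI false

namespace CfsgLib.ExtFieldUnit

open Matrix Module GeomClasses

variable {F : Type*} [Field F] {n : ℕ}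
variable {E : Type*} [Field E] [Algebra F E] [Module E (Fin n → F)] [IsScalarTower F E (Fin n → F)]
variable {σ : F ≃+* F} {f : (Fin n → F) → (Fin n → F) → F} {τ : E ≃+* E} {ω : E →ₗ[F] F}
  {B : (Fin n → F) → (Fin n → F) → E} {M : Subgroup (GL (Fin n) F)}

namespace Setting

variable (S : Setting σ f τ ω B M)
include S

theorem f_inv {g : GL (Fin n) F} (hg : g ∈ M) (x y : Fin n → F) :
    f (((g⁻¹ : GL (Fin n) F) : Matrix (Fin n) (Fin n) F) *ᵥ x) y =
      f x ((g : Matrix (Fin n) (Fin n) F) *ᵥ y) := by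
  rw [← S.isom g hg, gl_mulVec_inv_mulVec]

/-- An isometry commuting with the scalars respects the extended form. -/
theorem B_iso {g : GL (Fin n) F} (hg : g ∈ M) (hgl : Lin E g) (x y : Fin n → F) :
    B ((g : Matrix (Fin n) (Fin n) F) *ᵥ x) ((g : Matrix (Fin n) (Fin n) F) *ᵥ y) = B x y :=
  S.extE fun a => by rw [S.spec, S.spec, ← hgl, S.isom g hg]

theorem B_inv {g : GL (Fin n) F} (hg : g ∈ M) (hgl : Lin E g) (x y : Fin n → F) :
    B (((g⁻¹ : GL (Fin n) F) : Matrix (Fin n) (Fin n) F) *ᵥ x) y =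
      B x ((g : Matrix (Fin n) (Fin n) F) *ᵥ y) := by
  rw [← S.B_iso hg hgl, gl_mulVec_inv_mulVec]

/-- The conjugate of a root element, acting. -/
theorem conj_T_mulVec {g : GL (Fin n) F} {v : Fin n → F} (hv : B v v = 0) (c : E) (x : Fin n → F) :
    ((g * S.T v c * g⁻¹ : GL (Fin n) F) : Matrix (Fin n) (Fin n) F) *ᵥ x =
      x + (g : Matrix (Fin n) (Fin n) F) *ᵥ
        ((c * B (((g⁻¹ : GL (Fin n) F) : Matrix (Fin n) (Fin n) F) *ᵥ x) v) • v) := by
  rw [gl_mul_mulVec, gl_mul_mulVec, S.T_mulVec hv, mulVec_add, gl_mulVec_inv_mulVec]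

/-- The map belonging to the next triple. -/
theorem Psi_step {g : GL (Fin n) F} (hg : g ∈ M) {v u : Fin n → F} (hv : B v v = 0) (hu : B u u = 0)
    (c a e : E) : ω (e * S.Psi (g * S.T v c * g⁻¹) u u a) =
      -ω (c * τ (S.Psi g v u (τ e)) * S.Psi g v u a) := by
  have h1 : (((g * S.T v c * g⁻¹)⁻¹ : GL (Fin n) F) : Matrix (Fin n) (Fin n) F) *ᵥ (a • u) =
      a • u - (g : Matrix (Fin n) (Fin n) F) *ᵥ ((c * S.Psi g v u a) • v) := by
    apply gl_mulVec_injective (g * S.T v c * g⁻¹)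
    beta_reduce
    rw [gl_mulVec_inv_mulVec, mulVec_sub, S.conj_T_mulVec hv, S.conj_T_mulVec hv, gl_inv_mulVec_mulVec,
      S.B_left, hv, mul_zero, mul_zero, zero_smul, mulVec_zero, add_zero, ← S.Psi_apply, add_sub_cancel_right]
  rw [S.Psi_apply, h1, S.B_sub_left, S.B_left, hu, mul_zero, zero_sub, mul_neg, map_neg, S.spec, S.adj]
  congr 1
  rw [← gl_mulVec_inv_mulVec g (τ e • u), S.isom g hg, S.f_eq, S.B_left, S.B_herm _ v, ← S.Psi_apply]
  congr 1
  ring

/-- A triple whose kernel cannot be enlarged. -/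
theorem exists_top (h : ∃ p, S.Good p) :
    ∃ g v u, S.Good (g, v, u) ∧ ∀ p, S.Good p → LinearMap.ker (S.Psi g v u) ≤
      LinearMap.ker (S.Psi p.1 p.2.1 p.2.2) → LinearMap.ker (S.Psi p.1 p.2.1 p.2.2) ≤ LinearMap.ker (S.Psi g v u) := by
  haveI := S.fin
  obtain ⟨p₀, hp₀⟩ := h
  obtain ⟨W, ⟨⟨g, v, u⟩, hp, rfl⟩, hmax⟩ := (wellFounded_gt : WellFounded ((· > ·) : Submodule F E → _ → Prop)).has_min
    {W | ∃ p, S.Good p ∧ LinearMap.ker (S.Psi p.1 p.2.1 p.2.2) = W} ⟨_, p₀, hp₀, rfl⟩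
  refine ⟨g, v, u, hp, fun p hp' hle => ?_⟩
  by_contra hnot
  exact hmax _ ⟨p, hp', rfl⟩ (lt_of_le_not_ge hle hnot)

/-- For a maximal triple the forms on the image are zero or non-degenerate. -/
theorem dichotomy {g : GL (Fin n) F} {v u : Fin n → F} (hp : S.Good (g, v, u))
    (hmax : ∀ p, S.Good p → LinearMap.ker (S.Psi g v u) ≤
      LinearMap.ker (S.Psi p.1 p.2.1 p.2.2) → LinearMap.ker (S.Psi p.1 p.2.1 p.2.2) ≤ LinearMap.ker (S.Psi g v u))
    {s : E} (hs : τ s = s) :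
    (∀ x ∈ LinearMap.range (S.Psi g v u), ∀ y ∈ LinearMap.range (S.Psi g v u), ω (s * x * τ y) = 0) ∨
    (∀ x ∈ LinearMap.range (S.Psi g v u),
      (∀ y ∈ LinearMap.range (S.Psi g v u), ω (s * x * τ y) = 0) → x = 0) := by
  obtain ⟨hg, hv, hu, -, hker⟩ := hp
  obtain ⟨θ, hθ0, hθ⟩ := S.exists_theta
  set b := g * S.T v (θ • s) * g⁻¹ with hb
  have hbM : b ∈ M := M.mul_mem (M.mul_mem hg (S.T_mem hv (by rw [S.tau_smul, hθ, hs, neg_smul])))
    (M.inv_mem hg)
  have hstep : ∀ a e, ω (e * S.Psi b u u a) = -(θ * ω (s * S.Psi g v u a * τ (S.Psi g v u (τ e)))) := fun a e => by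
    rw [hb, S.Psi_step hg hv hu, smul_mul_assoc, smul_mul_assoc, map_smul, smul_eq_mul, mul_right_comm]
  have hle : LinearMap.ker (S.Psi g v u) ≤ LinearMap.ker (S.Psi b u u) := fun a ha => by
    rw [LinearMap.mem_ker] at ha ⊢
    exact S.ext0 fun e => by rw [hstep, ha, mul_zero, zero_mul, map_zero, mul_zero, neg_zero]
  by_cases h0 : S.Psi b u u = 0
  · left
    rintro _ ⟨a, rfl⟩ _ ⟨e, rfl⟩
    have := hstep a (τ e)
    rw [h0, LinearMap.zero_apply, mul_zero, map_zero, S.tau_tau] at this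
    exact (mul_eq_zero.1 (neg_eq_zero.1 this.symm)).resolve_left hθ0
  · right
    rintro _ ⟨a, rfl⟩ h
    have hge := hmax (b, u, u) ⟨hbM, hu, hu, h0, ne_bot_of_le_ne_bot hker hle⟩ hle
    refine LinearMap.mem_ker.1 (hge (LinearMap.mem_ker.2 (S.ext0 fun e => ?_)))
    rw [hstep, h _ ⟨τ e, rfl⟩, mul_zero, neg_zero]

/-- The image of a maximal triple is a line. -/
theorem range_eq_line [Fintype F] {g : GL (Fin n) F} {v u : Fin n → F} (hp : S.Good (g, v, u))
    (hmax : ∀ p, S.Good p → LinearMap.ker (S.Psi g v u) ≤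
      LinearMap.ker (S.Psi p.1 p.2.1 p.2.2) → LinearMap.ker (S.Psi p.1 p.2.1 p.2.2) ≤ LinearMap.ker (S.Psi g v u)) :
    ∃ x₀, x₀ ≠ 0 ∧ ∀ a, ∃ t : F, S.Psi g v u a = t • x₀ := by
  classical
  haveI := S.fin
  set P := LinearMap.range (S.Psi g v u) with hP
  have hd : finrank F P < finrank F E := by
    have h1 := LinearMap.finrank_range_add_finrank_ker (S.Psi g v u)
    have h2 : 1 ≤ finrank F (LinearMap.ker (S.Psi g v u)) := Submodule.one_le_finrank_iff.2 hp.2.2.2.2
    rw [← hP] at h1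
    omega
  obtain ⟨x₀, hx₀, hx0⟩ := (Submodule.ne_bot_iff _).1
    (show P ≠ ⊥ from fun h => hp.2.2.2.1 (LinearMap.range_eq_bot.1 h))
  have hd0 : 0 < finrank F P := Submodule.one_le_finrank_iff.2 fun h => hx0 (by rw [h] at hx₀; simpa using hx₀)
  set Q : Submodule F E := Submodule.span F {z | ∃ x ∈ P, ∃ y ∈ P, z = x * τ y} with hQ
  -- the products span no more than the image
  have hQd : finrank F Q ≤ finrank F P := by
    by_contra hlt
    push Not at hlt
    obtain ⟨b, hb⟩ := S.exists_fixed_basis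
    let R : E → Module.Dual F Q := fun e => (ω ∘ₗ LinearMap.mulLeft F e) ∘ₗ Q.subtype
    obtain ⟨κ, a, hainj, hsp, hli⟩ := exists_linearIndependent' F (fun i => R (b i))
    have htop : Submodule.span F (Set.range ((fun i => R (b i)) ∘ a)) = ⊤ := by
      rw [hsp, eq_top_iff]
      intro φ _
      obtain ⟨φ', hφ'⟩ := LinearMap.exists_extend φ
      obtain ⟨c, hc⟩ := S.riesz φ'
      have hφ : φ = ∑ i, b.repr c i • R (b i) := LinearMap.ext fun z => by
        rw [← hφ', LinearMap.comp_apply, hc]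
        conv_lhs => rw [← b.sum_repr c, Finset.sum_mul, map_sum]
        simp only [LinearMap.sum_apply, LinearMap.smul_apply, R, LinearMap.comp_apply, LinearMap.mulLeft_apply,
          smul_mul_assoc, map_smul, Submodule.subtype_apply]
      rw [hφ]
      exact Submodule.sum_mem _ fun i _ => Submodule.smul_mem _ _ (Submodule.subset_span ⟨i, rfl⟩)
    haveI : Finite κ := Finite.of_injective a hainj
    haveI : Fintype κ := Fintype.ofFinite κ
    have hcard : Fintype.card κ = finrank F Q := by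
      rw [← finrank_span_eq_card hli, htop, finrank_top, Subspace.dual_finrank_eq]
    let ek := Fintype.equivFin κ
    let bP := finBasis F P
    obtain ⟨t, ht, ht0, hdet⟩ := exists_singular (σ := σ) (k := Fintype.card κ) (d := finrank F P) hd0 (by omega)
      (fun i => Matrix.of fun j l => ω (b (a (ek.symm i)) * (bP j : E) * τ (bP l : E)))
      (fun i j l => by
        simp only [Matrix.of_apply]
        rw [← S.omega_tau, map_mul τ, map_mul τ, hb, S.tau_tau, mul_right_comm])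
    set s : E := ∑ i, t i • b (a (ek.symm i)) with hs
    have hsfix : τ s = s := by
      rw [hs, map_sum]
      exact Finset.sum_congr rfl fun i _ => by rw [S.tau_smul, ht, hb]
    have hexp : ∀ z : E, ω (s * z) = ∑ i, t i * ω (b (a (ek.symm i)) * z) := fun z => by
      rw [hs, Finset.sum_mul, map_sum]
      exact Finset.sum_congr rfl fun i _ => by rw [smul_mul_assoc, map_smul, smul_eq_mul]
    rcases S.dichotomy hp hmax hsfix with h | h
    · refine ht0 (funext fun i => ?_)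
      have hz : ∀ z ∈ Q, ω (s * z) = 0 := by
        intro z hz
        refine Submodule.span_induction ?_ ?_ ?_ ?_ hz
        · rintro _ ⟨x, hx, y, hy, rfl⟩
          rw [← mul_assoc]
          exact h x hx y hy
        · simp
        · intro x y _ _ hx hy
          rw [mul_add, map_add, hx, hy, add_zero]
        · intro c x _ hx
          rw [mul_smul_comm, map_smul, hx, smul_zero]
      have hl := Fintype.linearIndependent_iff.1 hli (fun j => t (ek j)) (LinearMap.ext fun z => by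
        simp only [Function.comp_apply, LinearMap.sum_apply, LinearMap.smul_apply, R, LinearMap.comp_apply,
          LinearMap.mulLeft_apply, Submodule.subtype_apply, smul_eq_mul, LinearMap.zero_apply]
        rw [← hz z z.2, hexp, ← ek.sum_comp]
        simp) (ek.symm i)
      simpa using hl
    · obtain ⟨α, hα0, hα⟩ := Matrix.exists_vecMul_eq_zero_iff.2 hdet
      have hx := h (∑ j, α j • bP j : P) (SetLike.coe_mem _) (fun y hy => by
        obtain ⟨yy, rfl⟩ : ∃ yy : P, (yy : E) = y := ⟨⟨y, hy⟩, rfl⟩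
        have hcol : ∀ l, ω (s * ((∑ j, α j • bP j : P) : E) * τ (bP l : E)) = 0 := fun l => by
          have := congrFun hα l
          simp only [Matrix.vecMul, dotProduct, Matrix.sum_apply, Matrix.smul_apply, Matrix.of_apply, smul_eq_mul,
            Pi.zero_apply] at this
          rw [← this, Submodule.coe_sum, Finset.mul_sum, Finset.sum_mul, map_sum]
          refine Finset.sum_congr rfl fun j _ => ?_
          rw [Submodule.coe_smul, mul_smul_comm, smul_mul_assoc, map_smul, smul_eq_mul, mul_assoc, hexp]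
          simp only [mul_assoc]
        rw [← bP.sum_repr yy]
        simp only [Submodule.coe_sum (s := Finset.univ) (x := fun i => bP.repr yy i • bP i)]
        rw [map_sum, Finset.mul_sum, map_sum]
        refine Finset.sum_eq_zero fun l _ => ?_
        rw [Submodule.coe_smul, S.tau_smul, mul_smul_comm, map_smul, hcol, smul_zero])
      exact hα0 (funext fun j => Fintype.linearIndependent_iff.1 bP.linearIndependent α (Subtype.ext hx) j)
  -- hence a subfield
  have hmap : ∀ w ∈ P, w ≠ 0 → Submodule.map (LinearMap.mulRight F (τ w)) P = Q := fun w hw hw0 => by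
    refine Submodule.eq_of_le_of_finrank_le ?_ ?_
    · rintro _ ⟨x, hx, rfl⟩
      exact Submodule.subset_span ⟨x, hx, w, hw, rfl⟩
    · rw [← (Submodule.equivMapOfInjective _ (show Function.Injective (LinearMap.mulRight F (τ w)) from fun x y hxy => mul_right_cancel₀ (by simpa using hw0) hxy) P).finrank_eq]
      exact hQd
  have hstable : ∀ a : E, a * x₀ ∈ P → ∀ p ∈ P, τ a * p ∈ P := fun a ha p hpP => by
    have h1 : p * τ (a * x₀) ∈ Q := Submodule.subset_span ⟨p, hpP, _, ha, rfl⟩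
    rw [← hmap x₀ hx₀ hx0] at h1
    obtain ⟨p', hp', he⟩ := h1
    rw [LinearMap.mulRight_apply, map_mul, ← mul_assoc] at he
    rw [mul_comm, ← mul_right_cancel₀ (by simpa using hx0) he]
    exact hp'
  have hstable' : ∀ a : E, a * x₀ ∈ P → ∀ p ∈ P, a * p ∈ P := fun a ha p hpP => by
    simpa [S.tau_tau] using hstable (τ a) (hstable a ha x₀ hx₀) p hpP
  let A : Subalgebra F E :=
    (Submodule.comap (LinearMap.mulRight F x₀) P).toSubalgebra
      (by simpa using hx₀)
      (fun a b ha hb => by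
        simp only [Submodule.mem_comap, LinearMap.mulRight_apply] at ha hb ⊢
        rw [mul_assoc]
        exact hstable' a ha _ hb)
  haveI := Subalgebra.isSimpleOrder_of_finrank_prime F E S.prime
  rcases eq_bot_or_eq_top A with hA | hA
  · refine ⟨x₀, hx0, fun a => ?_⟩
    have h1 : S.Psi g v u a / x₀ ∈ A := by
      show S.Psi g v u a / x₀ * x₀ ∈ P
      rw [div_mul_cancel₀ _ hx0]
      exact ⟨a, rfl⟩
    rw [hA, Algebra.mem_bot] at h1
    obtain ⟨t, ht⟩ := h1
    exact ⟨t, by rw [Algebra.smul_def, ht, div_mul_cancel₀ _ hx0]⟩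
  · exfalso
    have htop : P = ⊤ := eq_top_iff.2 fun e _ => by
      have h1 : e / x₀ ∈ A := hA ▸ Algebra.mem_top
      have h2 : e / x₀ * x₀ ∈ P := h1
      rwa [div_mul_cancel₀ _ hx0] at h2
    rw [htop, finrank_top] at hd
    exact lt_irrefl _ hd

/-- An element of the overgroup shifting a line along itself. -/
theorem exists_shift [Fintype F] (h : ∃ p, S.Good p) : ∃ (w : Fin n → F) (N : E),
    w ≠ 0 ∧ B w w = 0 ∧ N ≠ 0 ∧ τ N = N ∧ ∀ s : E, τ s = s → ω (s * N) = 0 →
      ∃ g ∈ M, ∀ k : E, (g : Matrix (Fin n) (Fin n) F) *ᵥ (k • w) = k • w + ω (k * N) • (s • w) := by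
  obtain ⟨g, v, u, hp, hmax⟩ := S.exists_top h
  obtain ⟨x₀, hx0, hline⟩ := S.range_eq_line hp hmax
  obtain ⟨hg, hv, hu, hne, -⟩ := hp
  obtain ⟨e₀, he₀⟩ : ∃ e₀, ω e₀ ≠ 0 := by
    by_contra hc; push Not at hc
    exact S.omega_ne (LinearMap.ext hc)
  set ζ₀ : E := (ω e₀)⁻¹ • (e₀ / x₀) with hζ₀
  have hζ₀1 : ω (ζ₀ * x₀) = 1 := by
    rw [hζ₀, smul_mul_assoc, div_mul_cancel₀ _ hx0, map_smul, smul_eq_mul, inv_mul_cancel₀ he₀]
  obtain ⟨ζ, hζ⟩ := S.riesz (ω ∘ₗ LinearMap.mulLeft F ζ₀ ∘ₗ S.Psi g v u)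
  have hpsi : ∀ a, S.Psi g v u a = ω (ζ * a) • x₀ := fun a => by
    obtain ⟨t, ht⟩ := hline a
    rw [← hζ, LinearMap.comp_apply, LinearMap.comp_apply, LinearMap.mulLeft_apply, ht, mul_smul_comm, map_smul,
      hζ₀1, smul_eq_mul, mul_one]
  have hζ0 : ζ ≠ 0 := fun h0 => hne (LinearMap.ext fun a => by
    rw [hpsi, h0, zero_mul, map_zero, zero_smul]; rfl)
  have hu0 : u ≠ 0 := fun h0 => hne (LinearMap.ext fun a => by
    rw [S.Psi_apply, h0, smul_zero, mulVec_zero, S.B_zero_left]; rfl)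
  have hτζ : τ ζ ≠ 0 := by simpa using hζ0
  have hx0' : τ x₀ ≠ 0 := by simpa using hx0
  obtain ⟨s₁, hs₁, hs₁'⟩ := S.exists_fixed_ne (mul_ne_zero hx0 hx0')
  obtain ⟨θ, hθ0, hθ⟩ := S.exists_theta
  set c₁ : E := θ • s₁ with hc₁
  have hc₁s : τ c₁ = -c₁ := by rw [hc₁, S.tau_smul, hθ, hs₁, neg_smul]
  set κ₀ : F := ω (c₁ * (x₀ * τ x₀)) with hκ₀
  have hκ0 : κ₀ ≠ 0 := by
    rw [hκ₀, hc₁, smul_mul_assoc, map_smul, smul_eq_mul]
    exact mul_ne_zero hθ0 hs₁'
  have hκs : σ κ₀ = -κ₀ := by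
    rw [hκ₀, ← S.omega_tau, map_mul τ, map_mul τ, S.tau_tau, hc₁s, mul_comm (τ x₀), neg_mul, map_neg]
  set b := g * S.T v c₁ * g⁻¹ with hb
  have hbM : b ∈ M := M.mul_mem (M.mul_mem hg (S.T_mem hv hc₁s)) (M.inv_mem hg)
  set z : E := (-κ₀) • τ ζ with hz
  have hpsi' : ∀ a, S.Psi b u u a = ω (ζ * a) • z := fun a => S.extE fun e => by
    rw [hb, S.Psi_step hg hv hu, hpsi, hpsi, S.tau_smul, ← S.omega_tau, map_mul τ, S.tau_tau, hz, mul_comm (τ ζ) e]
    simp only [mul_smul_comm, smul_mul_assoc, map_smul, smul_eq_mul]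
    rw [mul_assoc c₁, mul_comm (τ x₀) x₀, ← hκ₀]
    ring
  refine ⟨τ ζ • u, ζ * τ ζ, smul_ne_zero hτζ hu0, by rw [S.B_left, S.B_right, hu, mul_zero, mul_zero],
    mul_ne_zero hζ0 hτζ, by rw [map_mul, S.tau_tau, mul_comm], fun s hs hsN => ?_⟩
  set c : E := (-κ₀)⁻¹ • s with hc
  have hcs : τ c = -c := by
    rw [hc, S.tau_smul, map_inv₀, map_neg, hκs, neg_neg, hs, inv_neg, neg_smul, neg_neg]
  have hcz : c * z = s * τ ζ := by
    rw [hc, hz, smul_mul_smul_comm, inv_mul_cancel₀ (neg_ne_zero.2 hκ0), one_smul]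
  have hkill : ω (ζ * (c * z)) = 0 := by
    rw [hcz, ← hsN]; congr 1; ring
  refine ⟨b * S.T u c * b⁻¹, M.mul_mem (M.mul_mem hbM (S.T_mem hu hcs)) (M.inv_mem hbM), fun k => ?_⟩
  rw [smul_smul, S.conj_T_mulVec hu, ← S.Psi_apply, hpsi', mul_smul_comm, hcz, smul_assoc, mulVec_smul,
    ← hcz, hb, S.conj_T_mulVec hv, ← S.Psi_apply, hpsi, hkill, zero_smul, mul_zero, zero_smul, mulVec_zero,
    add_zero, hcz, smul_smul]
  congr 2
  congr 1
  ring

omit S in
/-- The element `x ↦ x + (φ e + (ω(eβ) + φ γ) s) w`. -/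
def Acts (ω : E →ₗ[F] F) (B : (Fin n → F) → (Fin n → F) → E) (M : Subgroup (GL (Fin n) F))
    (w : Fin n → F) (s e : E) (γ : F) : Prop :=
  ∃ g ∈ M, ∀ x, (g : Matrix (Fin n) (Fin n) F) *ᵥ x =
    x + (ω (s * B x w) • e + (ω (e * B x w) + ω (s * B x w) * γ) • s) • w

theorem acts_of_shift {w : Fin n → F} {N : E} (hw : B w w = 0) (hN0 : N ≠ 0) (hN : τ N = N) {s e : E}
    (hs : τ s = s) (he : τ e = -e) {h : GL (Fin n) F} (hh : h ∈ M)
    (hval : ∀ k : E, (h : Matrix (Fin n) (Fin n) F) *ᵥ (k • w) = k • w + ω (k * N) • (s • w)) :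
    Acts ω B M w s e (ω (e * N)) := by
  set c := e / N with hc
  have hcs : τ c = -c := by rw [hc, map_div₀, he, hN, neg_div]
  have hcN : c * N = e := div_mul_cancel₀ _ hN0
  refine ⟨h * S.T w c * h⁻¹ * S.T w (-c), M.mul_mem (M.mul_mem (M.mul_mem hh (S.T_mem hw hcs)) (M.inv_mem hh))
    (S.T_mem hw (by rw [map_neg, hcs])), fun x => ?_⟩
  have hpull : ∀ y, B (((h⁻¹ : GL (Fin n) F) : Matrix (Fin n) (Fin n) F) *ᵥ y) w =
      B y w + ω (s * B y w) • N := fun y => S.extE fun a => by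
    rw [S.spec, S.adj, S.f_inv hh, hval, S.f_eq, S.B_add_right, S.B_smul_right, S.B_right, S.B_right, hs,
      S.tau_tau, ← S.omega_tau, map_mul τ, S.tau_tau, hN, mul_add, mul_smul_comm, map_add, map_smul, map_add,
      map_smul, smul_eq_mul, smul_eq_mul, mul_comm (ω (a * N))]
  set β := B x w with hβ
  set y := x + (-c * β) • w with hy
  have hyw : B y w = β := by rw [hy, S.B_add_left, S.B_left, hw, mul_zero, add_zero]
  have h1 : c * (β + ω (s * β) • N) = c * β + ω (s * β) • e := by rw [mul_add, mul_smul_comm, hcN]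
  have h2 : ω ((c * β + ω (s * β) • e) * N) = ω (e * β) + ω (s * β) * ω (e * N) := by
    rw [add_mul, map_add, smul_mul_assoc, map_smul, smul_eq_mul, mul_right_comm, hcN]
  rw [gl_mul_mulVec, S.T_mulVec hw, ← hy, S.conj_T_mulVec hw, hpull, hyw, h1, hval, h2, hy]
  simp only [add_smul, smul_assoc, neg_mul, neg_smul]
  abel

/-- Changing the parameter of a root element by a move of the line. -/
theorem acts_all [Fintype F] {w : Fin n → F} {N : E} (hw0 : w ≠ 0) (hw : B w w = 0) (hN0 : N ≠ 0) (hN : τ N = N)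
    (h : ∀ s : E, τ s = s → ω (s * N) = 0 →
      ∃ g ∈ M, ∀ k : E, (g : Matrix (Fin n) (Fin n) F) *ᵥ (k • w) = k • w + ω (k * N) • (s • w))
    {m s e : E} (hm : τ m = m) (hm0 : m ≠ 0) (hs : τ s = s) (hsm : ω (s * m) = 0) (he : τ e = -e) :
    Acts ω B M w s e (ω (e * m)) := by
  set k := N / m with hk
  have hk0 : k ≠ 0 := div_ne_zero hN0 hm0
  have hkf : τ k = k := by rw [hk, map_div₀, hN, hm]
  have hkN : ∀ a : E, a / k * N = a * m := fun a => by rw [hk]; field_simp
  obtain ⟨g₀, hg₀, hgl, hgw⟩ := S.moves_fixed hw0 hw hk0 hkf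
  have hs' : τ (s / k) = s / k := by rw [map_div₀, hs, hkf]
  obtain ⟨g₁, hg₁, hval⟩ := h _ hs' (by rw [hkN]; exact hsm)
  obtain ⟨A, hA, hAx⟩ := S.acts_of_shift hw hN0 hN hs' (show τ (e / k) = -(e / k) by
    rw [map_div₀, he, hkf, neg_div]) hg₁ hval
  refine ⟨g₀ * A * g₀⁻¹, M.mul_mem (M.mul_mem hg₀ hA) (M.inv_mem hg₀), fun x => ?_⟩
  have hb : B (((g₀⁻¹ : GL (Fin n) F) : Matrix (Fin n) (Fin n) F) *ᵥ x) w = k * B x w := by
    rw [S.B_inv hg₀ hgl, hgw, S.B_right, hkf]
  have e1 : ∀ a : E, a / k * (k * B x w) = a * B x w := fun a => by rw [← mul_assoc, div_mul_cancel₀ _ hk0]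
  rw [gl_mul_mulVec, gl_mul_mulVec, hAx, hb, e1, e1, hkN, mulVec_add, gl_mulVec_inv_mulVec, hgl, hgw,
    smul_smul, add_mul, smul_mul_assoc, smul_mul_assoc, div_mul_cancel₀ _ hk0, div_mul_cancel₀ _ hk0]

/-- An overgroup with a good triple contains the transvections of one centre. -/
theorem exists_special [Fintype F] (h : ∃ p, S.Good p) : ∃ z : Fin n → F,
    z ≠ 0 ∧ B z z = 0 ∧ ∀ γ : F, σ γ = -γ → formTv f z γ ∈ M := by
  haveI := S.fin
  obtain ⟨w, N, hw0, hw, hN0, hN, hshift⟩ := S.exists_shift h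
  obtain ⟨b, hb⟩ := S.exists_fixed_basis
  obtain ⟨i, hi⟩ : ∃ i, b i ≠ 1 := by
    by_contra hc
    push Not at hc
    have h2 := S.prime.two_le
    have h3 := b.injective ((hc ⟨0, by omega⟩).trans (hc ⟨1, by omega⟩).symm)
    simp [Fin.ext_iff] at h3
  set m := b i with hm
  have hm0 : m ≠ 0 := b.ne_zero i
  -- a fixed element killing both
  obtain ⟨s, hs, hs0, hs1, hsm⟩ : ∃ s, τ s = s ∧ s ≠ 0 ∧ ω (s * 1) = 0 ∧ ω (s * m) = 0 := by
    obtain ⟨a, ha, ha0⟩ := (Submodule.ne_bot_iff _).1 (LinearMap.ker_ne_bot_of_finrank_lt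
      (f := ω.prod (ω ∘ₗ LinearMap.mulRight F m)) (by
        rw [Module.finrank_prod, Module.finrank_self]
        obtain ⟨j, hj⟩ := S.odd
        have := S.prime.two_le
        omega))
    rw [LinearMap.mem_ker] at ha
    replace ha : ω a = 0 ∧ ω (a * m) = 0 := by simpa using ha
    have hm' : τ m = m := hb i
    have hta : ω (τ a) = 0 ∧ ω (τ a * m) = 0 :=
      ⟨by rw [S.omega_tau, ha.1, map_zero], by rw [← hm', ← map_mul, S.omega_tau, ha.2, map_zero]⟩
    by_cases hsum : a + τ a = 0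
    · obtain ⟨θ, hθ0, hθ⟩ := S.exists_theta
      refine ⟨θ • a, ?_, smul_ne_zero hθ0 ha0, ?_, ?_⟩
      · rw [S.tau_smul, hθ, eq_neg_of_add_eq_zero_right hsum, neg_smul, smul_neg, neg_neg]
      · rw [mul_one, map_smul, ha.1, smul_zero]
      · rw [smul_mul_assoc, map_smul, ha.2, smul_zero]
    · refine ⟨a + τ a, by rw [map_add, S.tau_tau, add_comm], hsum, ?_, ?_⟩
      · rw [mul_one, map_add, ha.1, hta.1, add_zero]
      · rw [add_mul, map_add, ha.2, hta.2, add_zero]
  refine ⟨s • w, smul_ne_zero hs0 hw0, by rw [S.B_left, S.B_right, hw, mul_zero, mul_zero], fun γ hγ => ?_⟩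
  -- the skew parameter with the given value
  have hd0 : (1 : E) - m ≠ 0 := sub_ne_zero.2 (Ne.symm hi)
  obtain ⟨s₁, hs₁, hs₁'⟩ := S.exists_fixed_ne hd0
  set t := ω (s₁ * (1 - m)) with ht
  have htf : σ t = t := by rw [ht, ← S.omega_tau, map_mul τ, hs₁, map_sub, map_one, hb i]
  set e : E := (γ / t) • s₁ with he
  have hes : τ e = -e := by rw [he, S.tau_smul, map_div₀, hγ, htf, hs₁, neg_div, neg_smul]
  obtain ⟨A, hA, hAx⟩ := S.acts_all hw0 hw hN0 hN hshift (map_one τ) one_ne_zero hs hs1 hes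
  obtain ⟨A', hA', hAx'⟩ := S.acts_all hw0 hw hN0 hN hshift (hb i) hm0 hs hsm
    (show τ (-e) = -(-e) by rw [map_neg, hes])
  have hsv : f (s • w) (s • w) = 0 := by rw [S.f_eq, S.B_left, S.B_right, hw, mul_zero, mul_zero, map_zero]
  have key : formTv f (s • w) γ = A * A' := gl_ext fun x => by
    rw [gl_mul_mulVec, Unit.formTv_mulVec S.herm hsv, hAx', hAx]
    simp only [S.B_add_left, S.B_left, hw, mul_zero, add_zero]
    rw [S.f_eq, S.B_right, hs]
    have hγ' : γ = ω (e * 1) + ω (-e * m) := by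
      rw [neg_mul, map_neg, ← sub_eq_add_neg, ← map_sub, ← mul_sub, he, smul_mul_assoc, map_smul, ← ht, smul_eq_mul,
        div_mul_cancel₀ _ (show t ≠ 0 from hs₁')]
    conv_lhs => rw [hγ']
    simp only [neg_mul, map_neg, add_smul, smul_assoc, add_mul, mul_comm (ω (s * B x w)), smul_neg, neg_smul,
      mul_one, mul_neg, neg_add_rev]
    module
  rw [key]
  exact M.mul_mem hA hA'

end Setting

end CfsgLib.ExtFieldUnit
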