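import Mathlib

/-!
Zeros over the fixed field of an involution: singular members of spaces of hermitian matrices and common
zeros of hermitian forms.
-/

set_option autoImplicit false
set_option linter.unusedSectionVars false

namespace CfsgLib.ExtFieldUnit

open MvPolynomial

variable {F : Type*} [Field F] [Fintype F] {σ : F ≃+* F}

/-- A system of small degree with coefficients fixed by the automorphism has a fixed non-trivial zero. -/
theorem exists_fixed_zero {k : ℕ} {ι' : Type} [Fintype ι'] (G : ι' → MvPolynomial (Fin k) F)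
    (hG : ∀ i, MvPolynomial.map (σ : F →+* F) (G i) = G i) (hdeg : ∑ i, (G i).totalDegree < k)
    (h0 : ∀ i, MvPolynomial.eval 0 (G i) = 0) :
    ∃ t : Fin k → F, (∀ j, σ (t j) = t j) ∧ t ≠ 0 ∧ ∀ i, MvPolynomial.eval t (G i) = 0 := by
  classical
  let F₀ : Subfield F := RingHom.eqLocusField (σ : F →+* F) (RingHom.id F)
  have hr : ∀ i, G i ∈ Set.range (MvPolynomial.map F₀.subtype : MvPolynomial (Fin k) F₀ → _) := fun i => by
    rw [MvPolynomial.mem_range_map_iff_coeffs_subset]
    intro c hc
    obtain ⟨m, -, rfl⟩ := MvPolynomial.mem_coeffs_iff.1 hc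
    refine ⟨⟨(G i).coeff m, ?_⟩, rfl⟩
    show (σ : F →+* F) ((G i).coeff m) = RingHom.id F ((G i).coeff m)
    rw [← MvPolynomial.coeff_map, hG, RingHom.id_apply]
  choose G' hG' using hr
  have hinj : Function.Injective F₀.subtype := Subtype.coe_injective
  have hdeg' : ∀ i, (G' i).totalDegree = (G i).totalDegree := fun i => by
    rw [← hG' i, MvPolynomial.totalDegree, MvPolynomial.totalDegree,
      MvPolynomial.support_map_of_injective _ hinj]
  have hev : ∀ (x : Fin k → F₀) i, MvPolynomial.eval (fun j => (x j : F)) (G i) =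
      F₀.subtype (MvPolynomial.eval x (G' i)) := fun x i => by
    rw [← hG' i, MvPolynomial.eval_map, MvPolynomial.eval₂_comp]
    rfl
  haveI : Fintype F₀ := Fintype.ofFinite _
  obtain ⟨p, hp⟩ := CharP.exists F₀
  haveI : Fact p.Prime := ⟨CharP.char_is_prime F₀ p⟩
  have hdvd := char_dvd_card_solutions_of_fintype_sum_lt p (f := G')
    (by rw [Fintype.card_fin]; simpa [hdeg'] using hdeg)
  have hz : ∀ i, MvPolynomial.eval (0 : Fin k → F₀) (G' i) = 0 := fun i => hinj (by
    rw [map_zero, ← hev]
    exact h0 i)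
  have h2 : 1 < Fintype.card {x : Fin k → F₀ // ∀ i, MvPolynomial.eval x (G' i) = 0} := by
    haveI : Nonempty {x : Fin k → F₀ // ∀ i, MvPolynomial.eval x (G' i) = 0} := ⟨⟨0, hz⟩⟩
    have h1 := Nat.le_of_dvd Fintype.card_pos hdvd
    have := (Fact.out : p.Prime).two_le
    omega
  obtain ⟨⟨x, hx⟩, hne⟩ := Fintype.exists_ne_of_one_lt_card h2 ⟨0, hz⟩
  refine ⟨fun j => (x j : F), fun j => (x j).2, fun h => hne (Subtype.ext (funext fun j => ?_)), fun i => ?_⟩
  · exact Subtype.ext (congrFun h j)
  · rw [hev, hx i, map_zero]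

/-- A space of hermitian matrices of dimension above their size contains a singular one. -/
theorem exists_singular {k d : ℕ} (hd : 0 < d) (hk : d < k) (H : Fin k → Matrix (Fin d) (Fin d) F)
    (hH : ∀ i j l, σ (H i j l) = H i l j) :
    ∃ t : Fin k → F, (∀ i, σ (t i) = t i) ∧ t ≠ 0 ∧ (∑ i, t i • H i).det = 0 := by
  classical
  let A : Matrix (Fin d) (Fin d) (MvPolynomial (Fin k) F) :=
    Matrix.of fun j l => ∑ i, MvPolynomial.X i * MvPolynomial.C (H i j l)
  have hmap : MvPolynomial.map (σ : F →+* F) A.det = A.det := by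
    rw [RingHom.map_det, ← Matrix.det_transpose A]
    congr 1
    ext j l : 2
    simp [A, hH]
  have hA : ∀ j l, (A j l).totalDegree ≤ 1 := fun j l => by
    simp only [A, Matrix.of_apply]
    exact MvPolynomial.totalDegree_finsetSum_le fun i _ =>
      (MvPolynomial.totalDegree_mul _ _).trans (by simp)
  have hdeg : A.det.totalDegree ≤ d := by
    rw [Matrix.det_apply]
    refine (MvPolynomial.totalDegree_finsetSum _ _).trans (Finset.sup_le fun π _ => ?_)
    have hsgn : (Equiv.Perm.sign π • ∏ j, A (π j) j).totalDegree = (∏ j, A (π j) j).totalDegree := by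
      rcases Int.units_eq_one_or (Equiv.Perm.sign π) with h | h
      · rw [h, one_smul]
      · rw [h, Units.neg_smul, one_smul, MvPolynomial.totalDegree_neg]
    rw [hsgn]
    refine (MvPolynomial.totalDegree_finsetProd _ _).trans ?_
    calc ∑ j, (A (π j) j).totalDegree ≤ ∑ _j : Fin d, 1 := Finset.sum_le_sum fun j _ => hA _ _
      _ = d := by simp
  have hev : ∀ t : Fin k → F, MvPolynomial.eval t A.det = (∑ i, t i • H i).det := fun t => by
    rw [RingHom.map_det]
    congr 1
    ext j l
    simp [A, Matrix.sum_apply]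
  haveI : Nonempty (Fin d) := ⟨⟨0, hd⟩⟩
  obtain ⟨t, ht, ht0, hz⟩ := exists_fixed_zero (σ := σ) (fun _ : Fin 1 => A.det) (fun _ => hmap)
    (by simpa using lt_of_le_of_lt hdeg hk) (fun _ => by rw [hev]; simp)
  exact ⟨t, ht, ht0, by rw [← hev]; exact hz 0⟩

/-- Few hermitian forms have a common fixed non-trivial zero. -/
theorem exists_common_zero {k m : ℕ} (hk : 2 * m < k) (h : Fin m → Fin k → Fin k → F)
    (hh : ∀ i j l, σ (h i j l) = h i l j) :
    ∃ t : Fin k → F, (∀ j, σ (t j) = t j) ∧ t ≠ 0 ∧ ∀ i, ∑ j, ∑ l, t j * t l * h i j l = 0 := by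
  classical
  let G : Fin m → MvPolynomial (Fin k) F := fun i =>
    ∑ j, ∑ l, MvPolynomial.X j * MvPolynomial.X l * MvPolynomial.C (h i j l)
  have hmap : ∀ i, MvPolynomial.map (σ : F →+* F) (G i) = G i := fun i => by
    simp only [G, map_sum, map_mul, MvPolynomial.map_X, MvPolynomial.map_C, RingHom.coe_coe, hh]
    rw [Finset.sum_comm]
    exact Finset.sum_congr rfl fun j _ => Finset.sum_congr rfl fun l _ => by ring
  have hdeg : ∀ i, (G i).totalDegree ≤ 2 := fun i =>
    (MvPolynomial.totalDegree_finsetSum _ _).trans (Finset.sup_le fun j _ =>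
      (MvPolynomial.totalDegree_finsetSum _ _).trans (Finset.sup_le fun l _ =>
        (MvPolynomial.totalDegree_mul _ _).trans (by
          have := MvPolynomial.totalDegree_mul (MvPolynomial.X j : MvPolynomial (Fin k) F) (MvPolynomial.X l)
          simp at this ⊢
          omega)))
  obtain ⟨t, ht, ht0, hz⟩ := exists_fixed_zero (σ := σ) G hmap (by
    calc ∑ i, (G i).totalDegree ≤ ∑ _i : Fin m, 2 := Finset.sum_le_sum fun i _ => hdeg i
      _ < k := by simp; omega) (fun i => by simp [G])
  exact ⟨t, ht, ht0, fun i => by simpa [G] using hz i⟩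

end CfsgLib.ExtFieldUnit
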