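import Cfsg.Agent.Lib.ExtFieldMax.Basic
import Cfsg.Agent.Lib.GeomClasses.Unit

/-!
A unitary form with an extension field acting by semi-adjoint scalars: the extended hermitian form, fixed
elements, root elements and moves between isotropic vectors.
-/

set_option autoImplicit false
set_option linter.unusedSectionVars false
set_option linter.unusedSimpArgs false
set_option linter.style.haveILetI false

namespace CfsgLib.ExtFieldUnit

open Matrix Module GeomClasses

variable {F : Type*} [Field F] {n : ℕ}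
variable {E : Type*} [Field E] [Algebra F E] [Module E (Fin n → F)] [IsScalarTower F E (Fin n → F)]

/-- The element `x ↦ x + φ x • a`, when invertible. -/
noncomputable def el (φ : (Fin n → F) →ₗ[E] E) (a : Fin n → F) : GL (Fin n) F :=
  letI := Classical.propDecidable ((1 + ExtFieldMax.mat φ a).det ≠ 0)
  if h : (1 + ExtFieldMax.mat φ a).det ≠ 0 then GeneralLinearGroup.mkOfDetNeZero _ h else 1

/-- An isometry of a function. -/
def Iso (f : (Fin n → F) → (Fin n → F) → F) (g : GL (Fin n) F) : Prop :=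
  ∀ x y, f ((g : Matrix (Fin n) (Fin n) F) *ᵥ x) ((g : Matrix (Fin n) (Fin n) F) *ᵥ y) = f x y

variable (E) in
/-- The element commutes with the scalars of the extension. -/
def Lin (g : GL (Fin n) F) : Prop :=
  ∀ (a : E) x, (g : Matrix (Fin n) (Fin n) F) *ᵥ (a • x) = a • ((g : Matrix (Fin n) (Fin n) F) *ᵥ x)

section el

variable [FiniteDimensional F E] {φ : (Fin n → F) →ₗ[E] E} {a : Fin n → F}

theorem el_val (h : 1 + φ a ≠ 0) :
    (el φ a : Matrix (Fin n) (Fin n) F) = 1 + ExtFieldMax.mat φ a := by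
  have hd : (1 + ExtFieldMax.mat φ a).det ≠ 0 := by
    rw [ExtFieldMax.det_one_add_mat]
    exact Algebra.norm_ne_zero_iff.2 h
  rw [el, dif_pos hd]
  rfl

theorem el_mulVec (h : 1 + φ a ≠ 0) (x : Fin n → F) :
    (el φ a : Matrix (Fin n) (Fin n) F) *ᵥ x = x + φ x • a := by
  rw [el_val h, add_mulVec, one_mulVec, ExtFieldMax.mat_mulVec]

theorem el_det (h : 1 + φ a ≠ 0) :
    (el φ a : Matrix (Fin n) (Fin n) F).det = Algebra.norm F (1 + φ a) := by
  rw [el_val h, ExtFieldMax.det_one_add_mat]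

theorem el_lin (h : 1 + φ a ≠ 0) : Lin E (el φ a) := fun c x => by
  rw [el_mulVec h, el_mulVec h, map_smul, smul_eq_mul, smul_add, smul_smul]

end el

theorem Lin.mul {g h : GL (Fin n) F} (hg : Lin E g) (hh : Lin E h) : Lin E (g * h) := fun a x => by
  rw [gl_mul_mulVec, gl_mul_mulVec, hh, hg]

theorem Lin.inv {g : GL (Fin n) F} (hg : Lin E g) : Lin E g⁻¹ := fun a x => by
  apply gl_mulVec_injective g
  simp only [gl_mulVec_inv_mulVec, hg a]

theorem lin_one : Lin E (1 : GL (Fin n) F) := fun a x => by simp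

theorem Iso.mul {f : (Fin n → F) → (Fin n → F) → F} {g h : GL (Fin n) F} (hg : Iso f g) (hh : Iso f h) :
    Iso f (g * h) := fun x y => by rw [gl_mul_mulVec, gl_mul_mulVec, hg, hh]

/-- The data: a unitary form, the involution of the extension, the extended form, and an overgroup. -/
structure Setting (σ : F ≃+* F) (f : (Fin n → F) → (Fin n → F) → F) (τ : E ≃+* E) (ω : E →ₗ[F] F)
    (B : (Fin n → F) → (Fin n → F) → E) (M : Subgroup (GL (Fin n) F)) : Prop where
  herm : Cfsg.Geo.IsUnitaryForm σ f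
  prime : (finrank F E).Prime
  odd : Odd (finrank F E)
  big : 2 * finrank F E ≤ n
  tau_alg : ∀ t : F, τ (algebraMap F E t) = algebraMap F E (σ t)
  tau_tau : ∀ a, τ (τ a) = a
  adj : ∀ (a : E) x y, f (a • x) y = f x (τ a • y)
  omega_ne : ω ≠ 0
  omega_tau : ∀ a, ω (τ a) = σ (ω a)
  spec : ∀ (a : E) x y, ω (a * B x y) = f (a • x) y
  cent : ∀ g : GL (Fin n) F, Iso f g → Lin E g → (g : Matrix (Fin n) (Fin n) F).det = 1 → g ∈ M
  isom : ∀ g ∈ M, Iso f g

variable {σ : F ≃+* F} {f : (Fin n → F) → (Fin n → F) → F} {τ : E ≃+* E} {ω : E →ₗ[F] F}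
  {B : (Fin n → F) → (Fin n → F) → E} {M : Subgroup (GL (Fin n) F)}

namespace Setting

variable (S : Setting σ f τ ω B M)
include S

theorem fin : FiniteDimensional F E := FiniteDimensional.of_finrank_pos S.prime.pos

theorem finV : Module.Finite E (Fin n → F) := Module.Finite.of_restrictScalars_finite F E _

theorem finiteE [Fintype F] : Finite E := haveI := S.fin; Module.finite_of_finite F

theorem tau_smul (t : F) (a : E) : τ (t • a) = σ t • τ a := by
  rw [Algebra.smul_def, Algebra.smul_def, map_mul, S.tau_alg]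

theorem sigma_sigma (t : F) : σ (σ t) = t := S.herm.involutive t

theorem tau_ne : τ ≠ RingEquiv.refl E := fun h => by
  obtain ⟨a, ha⟩ := Unit.exists_moved S.herm.ne_refl
  refine ha ((algebraMap F E).injective ?_)
  rw [← S.tau_alg, h]; rfl

/-- A skew scalar. -/
theorem exists_theta : ∃ θ : F, θ ≠ 0 ∧ σ θ = -θ := by
  obtain ⟨θ, h0, h⟩ := Unit.exists_skew S.herm.ne_refl S.herm.involutive
  exact ⟨θ, h0, eq_neg_of_add_eq_zero_right h⟩

theorem exists_parts {l : F} (hl : σ l ≠ l) (e : E) : ∃ a b, τ a = a ∧ τ b = b ∧ e = a + l • b := by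
  have hd : l - σ l ≠ 0 := sub_ne_zero.2 (Ne.symm hl)
  have hd' : σ l - l ≠ 0 := sub_ne_zero.2 hl
  have hb : τ ((l - σ l)⁻¹ • (e - τ e)) = (l - σ l)⁻¹ • (e - τ e) := by
    rw [S.tau_smul, map_inv₀, map_sub, map_sub, S.sigma_sigma, S.tau_tau, ← neg_sub (l : F), ← neg_sub e, smul_neg,
      inv_neg, neg_smul, neg_neg]
  refine ⟨e - l • ((l - σ l)⁻¹ • (e - τ e)), (l - σ l)⁻¹ • (e - τ e), ?_, hb, (sub_add_cancel _ _).symm⟩
  have h1 : e - τ e = (l - σ l) • ((l - σ l)⁻¹ • (e - τ e)) := by rw [smul_smul, mul_inv_cancel₀ hd, one_smul]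
  rw [map_sub, S.tau_smul, hb]
  rw [sub_smul] at h1
  generalize (l - σ l)⁻¹ • (e - τ e) = D at h1 ⊢
  linear_combination (norm := module) -h1

theorem ext0 {b : E} (h : ∀ a, ω (a * b) = 0) : b = 0 := by
  by_contra hb
  refine S.omega_ne (LinearMap.ext fun c => ?_)
  have := h (c * b⁻¹)
  rwa [mul_assoc, inv_mul_cancel₀ hb, mul_one] at this

theorem extE {b b' : E} (h : ∀ a, ω (a * b) = ω (a * b')) : b = b' :=
  sub_eq_zero.1 (S.ext0 fun a => by rw [mul_sub, map_sub, h, sub_self])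

theorem exists_fixed_ne {b : E} (hb : b ≠ 0) : ∃ s, τ s = s ∧ ω (s * b) ≠ 0 := by
  by_contra hc
  push Not at hc
  obtain ⟨l, hl⟩ := Unit.exists_moved S.herm.ne_refl
  refine hb (S.ext0 fun e => ?_)
  obtain ⟨a, c, ha, hc', rfl⟩ := S.exists_parts hl e
  rw [add_mul, map_add, smul_mul_assoc, map_smul, hc a ha, hc c hc', smul_zero, add_zero]

theorem omega_fixed {a : E} (ha : τ a = a) : σ (ω a) = ω a := by rw [← S.omega_tau, ha]

theorem riesz (φ : E →ₗ[F] F) : ∃ c : E, ∀ x, φ x = ω (c * x) := by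
  haveI := S.fin
  set Φ : E →ₗ[F] Module.Dual F E := (LinearMap.mul F E).compr₂ ω with hΦ
  have hinj : Function.Injective Φ := fun b b' h => S.extE fun a => by
    have := LinearMap.congr_fun h a
    rw [hΦ, LinearMap.compr₂_apply, LinearMap.compr₂_apply, LinearMap.mul_apply', LinearMap.mul_apply'] at this
    rwa [mul_comm a, mul_comm a]
  obtain ⟨c, hc⟩ := (LinearMap.injective_iff_surjective_of_finrank_eq_finrank
    Subspace.dual_finrank_eq.symm).1 hinj φ
  exact ⟨c, fun x => by rw [← hc]; rfl⟩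

/-! ### Fixed multiples and independence -/

omit S in
/-- The element is a ground multiple of a fixed element. -/
def InFK (τ : E ≃+* E) (e : E) : Prop := ∃ (t : F) (s : E), τ s = s ∧ e = t • s

theorem indep_tau {e : E} (he : ¬ InFK (F := F) τ e) {a b : F} (h : a • e + b • τ e = 0) : a = 0 ∧ b = 0 := by
  have he0 : e ≠ 0 := fun h0 => he ⟨0, 0, map_zero τ, by rw [h0, smul_zero]⟩
  by_cases ha : a = 0
  · refine ⟨ha, ?_⟩
    rw [ha, zero_smul, zero_add, smul_eq_zero] at h
    exact h.resolve_right fun h1 => he0 (by rw [← S.tau_tau e, h1, map_zero])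
  exfalso
  set c : F := -(b / a) with hc
  have hec : e = c • τ e := by
    rw [hc, neg_smul, eq_neg_iff_add_eq_zero]
    have := congrArg (fun z => a⁻¹ • z) h
    simp only [smul_add, smul_smul, inv_mul_cancel₀ ha, one_smul, smul_zero] at this
    rwa [div_eq_mul_inv, mul_comm b]
  have hc0 : c ≠ 0 := fun h0 => he0 (by rw [hec, h0, zero_smul])
  have hN : c * σ c = 1 := by
    have h1 : τ e = σ c • e := by rw [hec, S.tau_smul, S.tau_tau, ← hec]
    have h2 : (c * σ c - 1) • e = 0 := by rw [sub_smul, one_smul, mul_smul, ← h1, ← hec, sub_self]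
    exact sub_eq_zero.1 ((smul_eq_zero.1 h2).resolve_right he0)
  obtain ⟨t, ht0, ht⟩ : ∃ t : F, t ≠ 0 ∧ σ t * c = t := by
    by_cases h1 : 1 + c = 0
    · obtain ⟨θ, hθ0, hθ⟩ := S.exists_theta
      exact ⟨θ, hθ0, by rw [hθ, eq_neg_of_add_eq_zero_right h1]; ring⟩
    · exact ⟨1 + c, h1, by rw [map_add, map_one, add_mul, one_mul, mul_comm, hN]; ring⟩
  refine he ⟨t, t⁻¹ • e, ?_, by rw [smul_smul, mul_inv_cancel₀ ht0, one_smul]⟩
  have h1 : τ e = c⁻¹ • e := by
    conv_rhs => rw [hec]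
    rw [smul_smul, inv_mul_cancel₀ hc0, one_smul]
  have ht' : σ t ≠ 0 := fun h0 => ht0 (by rw [← ht, h0, zero_mul])
  rw [S.tau_smul, map_inv₀, h1, smul_smul, ← mul_inv, ht]

theorem exists_fixed_val {N e : E} (hN : τ N = N) (he : ¬ InFK (F := F) τ e)
    (hind : ∀ α : F, N ≠ α • e + σ α • τ e) {t : F} (ht : σ t = t) (ν : F) :
    ∃ s, τ s = s ∧ ω (s * N) = t ∧ ω (s * e) = ν := by
  let L : (F × F × F) →ₗ[F] E :=
    LinearMap.coprod ((LinearMap.id : F →ₗ[F] F).smulRight N)
      (LinearMap.coprod ((LinearMap.id : F →ₗ[F] F).smulRight e) ((LinearMap.id : F →ₗ[F] F).smulRight (τ e)))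
  have hL : ∀ a b c, L (a, b, c) = a • N + (b • e + c • τ e) := fun a b c => rfl
  have hker : LinearMap.ker L = ⊥ := by
    rw [Submodule.eq_bot_iff]
    rintro ⟨a, b, c⟩ h
    rw [LinearMap.mem_ker, hL] at h
    by_cases ha : a = 0
    · subst ha
      rw [zero_smul, zero_add] at h
      obtain ⟨rfl, rfl⟩ := S.indep_tau he h
      rfl
    exfalso
    set α : F := -(b / a) with hα
    set β : F := -(c / a) with hβ
    have h1 : N = α • e + β • τ e := by
      have := congrArg (fun z => a⁻¹ • z) h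
      simp only [smul_add, smul_smul, inv_mul_cancel₀ ha, one_smul, smul_zero] at this
      rw [eq_neg_of_add_eq_zero_left this, hα, hβ, neg_smul, neg_smul, div_eq_mul_inv, div_eq_mul_inv,
        mul_comm b, mul_comm c, neg_add]
    have h2 : N = σ α • τ e + σ β • e := by
      conv_lhs => rw [← hN, h1]
      rw [map_add, S.tau_smul, S.tau_smul, S.tau_tau]
    clear_value α β
    have h3 : (α - σ β) • e + (β - σ α) • τ e = 0 := by
      rw [sub_smul, sub_smul]
      linear_combination (norm := module) h2 - h1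
    refine hind α ?_
    rw [← sub_eq_zero.1 (S.indep_tau he h3).2]
    exact h1
  obtain ⟨g, hg⟩ := LinearMap.exists_leftInverse_of_injective L hker
  obtain ⟨a, ha⟩ := S.riesz
    ((LinearMap.coprod (t • LinearMap.id) (LinearMap.coprod (ν • LinearMap.id) (σ ν • LinearMap.id))) ∘ₗ g)
  have hval : ∀ x y z : F, ω (a * L (x, y, z)) = t * x + (ν * y + σ ν * z) := fun x y z => by
    rw [← ha, LinearMap.comp_apply]
    have := LinearMap.congr_fun hg (x, y, z)
    rw [LinearMap.comp_apply, LinearMap.id_apply] at this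
    rw [this]
    rfl
  have v1 : ω (a * N) = t := by simpa [hL] using hval 1 0 0
  have v2 : ω (a * e) = ν := by simpa [hL] using hval 0 1 0
  have v3 : ω (a * τ e) = σ ν := by simpa [hL] using hval 0 0 1
  have v4 : ω (τ a * N) = t := by rw [← hN, ← map_mul, S.omega_tau, v1, ht]
  have v5 : ω (τ a * e) = ν := by rw [← S.tau_tau e, ← map_mul, S.omega_tau, v3, S.sigma_sigma]
  obtain ⟨α, hα⟩ := Unit.exists_trace S.herm.ne_refl S.herm.involutive (map_one σ)
  refine ⟨α • a + σ α • τ a, ?_, ?_, ?_⟩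
  · rw [map_add, S.tau_smul, S.tau_smul, S.tau_tau, S.sigma_sigma, add_comm]
  · rw [add_mul, map_add, smul_mul_assoc, smul_mul_assoc, map_smul, map_smul, v1, v4, ← add_smul, hα, one_smul]
  · rw [add_mul, map_add, smul_mul_assoc, smul_mul_assoc, map_smul, map_smul, v2, v5, ← add_smul, hα, one_smul]

/-! ### The extended form -/

theorem B_left (c : E) (x y : Fin n → F) : B (c • x) y = c * B x y :=
  S.extE fun a => by rw [← mul_assoc, S.spec, S.spec, smul_smul]

theorem B_herm (x y : Fin n → F) : B y x = τ (B x y) :=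
  S.extE fun a => by
    rw [S.spec, ← S.tau_tau a, ← map_mul, S.omega_tau, S.spec, S.tau_tau, S.adj a y x, S.herm.herm y]

theorem B_right (c : E) (x y : Fin n → F) : B x (c • y) = τ c * B x y := by
  rw [S.B_herm, S.B_left, map_mul, ← S.B_herm]

theorem B_add_left (x x' y : Fin n → F) : B (x + x') y = B x y + B x' y :=
  S.extE fun a => by rw [mul_add, map_add, S.spec, S.spec, S.spec, smul_add, S.herm.add_left]

theorem B_add_right (x y y' : Fin n → F) : B x (y + y') = B x y + B x y' := by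
  rw [S.B_herm, S.B_add_left, map_add, ← S.B_herm, ← S.B_herm]

theorem B_zero_left (y : Fin n → F) : B 0 y = 0 := by
  simpa using S.B_left 0 0 y

theorem B_zero_right (x : Fin n → F) : B x 0 = 0 := by rw [S.B_herm, S.B_zero_left, map_zero]

theorem B_neg_left (x y : Fin n → F) : B (-x) y = -B x y := by
  rw [← neg_one_smul E x, S.B_left, neg_one_mul]

theorem B_neg_right (x y : Fin n → F) : B x (-y) = -B x y := by
  rw [S.B_herm, S.B_neg_left, map_neg, ← S.B_herm]

theorem B_sub_left (x x' y : Fin n → F) : B (x - x') y = B x y - B x' y := by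
  rw [sub_eq_add_neg, S.B_add_left, S.B_neg_left, sub_eq_add_neg]

theorem B_sub_right (x y y' : Fin n → F) : B x (y - y') = B x y - B x y' := by
  rw [sub_eq_add_neg, S.B_add_right, S.B_neg_right, sub_eq_add_neg]

theorem B_smul_left (t : F) (x y : Fin n → F) : B (t • x) y = t • B x y := by
  rw [← algebraMap_smul E t x, S.B_left, Algebra.smul_def]

theorem f_eq (x y : Fin n → F) : f x y = ω (B x y) := by
  rw [← one_mul (B x y), S.spec, one_smul]

theorem B_self_fixed (x : Fin n → F) : τ (B x x) = B x x := (S.B_herm x x).symm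

theorem nondeg {u : Fin n → F} (h : ∀ y, B u y = 0) : u = 0 := by
  by_contra hu
  obtain ⟨y, hy⟩ := (S.herm.nondegenerate u hu).2
  exact hy (by rw [S.f_eq, h, map_zero])

theorem exists_B_eq {u : Fin n → F} (hu : u ≠ 0) (t : E) : ∃ w, B u w = t := by
  obtain ⟨y, hy⟩ : ∃ y, B u y ≠ 0 := by
    by_contra h; push Not at h; exact hu (S.nondeg h)
  exact ⟨τ (t * (B u y)⁻¹) • y, by rw [S.B_right, S.tau_tau, mul_assoc, inv_mul_cancel₀ hy, mul_one]⟩

theorem mem_line {v z : Fin n → F} (hv : v ≠ 0) (h : ∀ w, B v w = 0 → B z w = 0) : ∃ t : E, z = t • v := by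
  obtain ⟨w₁, hw₁⟩ := S.exists_B_eq hv 1
  refine ⟨B z w₁, sub_eq_zero.1 (S.nondeg fun w => ?_)⟩
  have h0 := h (w - τ (B v w) • w₁) (by rw [S.B_sub_right, S.B_right, S.tau_tau, hw₁, mul_one, sub_self])
  rw [S.B_sub_right, S.B_right, S.tau_tau, sub_eq_zero] at h0
  rw [S.B_sub_left, S.B_left, h0, mul_comm, sub_self]

/-- An isotropic vector with prescribed product against a given isotropic one. -/
theorem exists_partner [Fintype F] {v : Fin n → F} (hv0 : v ≠ 0) (hv : B v v = 0) {t : E} (ht : t ≠ 0) :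
    ∃ y, B v y = t ∧ B y y = 0 := by
  haveI := S.finiteE
  haveI : Fintype E := Fintype.ofFinite E
  obtain ⟨y, hy⟩ := S.exists_B_eq hv0 t
  obtain ⟨l, hl⟩ := Unit.exists_trace S.tau_ne S.tau_tau
    (show τ (-B y y) = -B y y by rw [map_neg, S.B_self_fixed])
  refine ⟨y + (l / t) • v, ?_, ?_⟩
  · rw [S.B_add_right, hy, S.B_right, hv, mul_zero, add_zero]
  · have hyv : B y v = τ t := by rw [S.B_herm, hy]
    have ht' : τ t ≠ 0 := by simpa using ht
    rw [S.B_add_left, S.B_add_right, S.B_add_right, S.B_left, S.B_left, S.B_right, S.B_right, hy, hyv, hv,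
      map_div₀, div_mul_cancel₀ _ ht, div_mul_cancel₀ _ ht', mul_zero, mul_zero, add_zero]
    linear_combination hl

/-! ### Root elements -/

omit S in
/-- `x ↦ B x u` times a constant. -/
noncomputable def Bl (S : Setting σ f τ ω B M) (u : Fin n → F) (c : E) : (Fin n → F) →ₗ[E] E where
  toFun x := c * B x u
  map_add' x y := by rw [S.B_add_left, mul_add]
  map_smul' a x := by rw [S.B_left, RingHom.id_apply, smul_eq_mul, mul_left_comm]

theorem Bl_apply (u : Fin n → F) (c : E) (x : Fin n → F) : S.Bl u c x = c * B x u := rfl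

/-- The root element. -/
noncomputable def T (u : Fin n → F) (c : E) : GL (Fin n) F := el (S.Bl u c) u

variable {u : Fin n → F} (hu : B u u = 0)
include hu

theorem T_mulVec (c : E) (x : Fin n → F) :
    (S.T u c : Matrix (Fin n) (Fin n) F) *ᵥ x = x + (c * B x u) • u := by
  haveI := S.fin
  exact el_mulVec (φ := S.Bl u c) (by rw [S.Bl_apply, hu, mul_zero, add_zero]; exact one_ne_zero) x

theorem T_lin (c : E) : Lin E (S.T u c) := fun a x => by
  rw [S.T_mulVec hu, S.T_mulVec hu, S.B_left, smul_add, smul_smul, mul_left_comm]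

theorem T_det (c : E) : (S.T u c : Matrix (Fin n) (Fin n) F).det = 1 := by
  haveI := S.fin
  rw [T, el_det (by rw [S.Bl_apply, hu, mul_zero, add_zero]; exact one_ne_zero), S.Bl_apply, hu, mul_zero,
    add_zero, map_one]

theorem T_isometry {c : E} (hc : τ c = -c) : Iso f (S.T u c) := fun x y => by
  rw [S.f_eq, S.f_eq, S.T_mulVec hu, S.T_mulVec hu, S.B_add_left, S.B_add_right, S.B_add_right, S.B_left,
    S.B_left, S.B_right, S.B_right, hu, S.B_herm y u, map_mul, hc]
  congr 1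
  ring

theorem T_mem {c : E} (hc : τ c = -c) : S.T u c ∈ M :=
  S.cent _ (S.T_isometry hu hc) (S.T_lin hu c) (S.T_det hu c)

end Setting

/-- An element of the overgroup commuting with the scalars carries one vector to another. -/
def Moves (E : Type*) [Field E] [Module E (Fin n → F)] (M : Subgroup (GL (Fin n) F)) (v z : Fin n → F) : Prop :=
  ∃ g ∈ M, Lin E g ∧ (g : Matrix (Fin n) (Fin n) F) *ᵥ v = z

theorem Moves.trans {v y z : Fin n → F} (h : Moves E M v y) (h' : Moves E M y z) : Moves E M v z := by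
  obtain ⟨g, hg, hgl, rfl⟩ := h
  obtain ⟨g', hg', hgl', rfl⟩ := h'
  exact ⟨g' * g, M.mul_mem hg' hg, hgl'.mul hgl, gl_mul_mulVec _ _ _⟩

theorem Moves.smul {v z : Fin n → F} (h : Moves E M v z) (a : E) : Moves E M (a • v) (a • z) := by
  obtain ⟨g, hg, hgl, rfl⟩ := h
  exact ⟨g, hg, hgl, hgl a v⟩

theorem Moves.symm {v z : Fin n → F} (h : Moves E M v z) : Moves E M z v := by
  obtain ⟨g, hg, hgl, rfl⟩ := h
  exact ⟨g⁻¹, M.inv_mem hg, hgl.inv, gl_inv_mulVec_mulVec _ _⟩

namespace Setting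

variable (S : Setting σ f τ ω B M)
include S

/-- Isotropic vectors with a skew product are moved to each other. -/
theorem moves_step {v z : Fin n → F} (hv : B v v = 0) (hz : B z z = 0) (h0 : B v z ≠ 0)
    (hs : τ (B v z) = -B v z) : Moves E M v z := by
  have hzv : B z v = -B v z := by rw [S.B_herm, hs]
  have hu : B (z - v) (z - v) = 0 := by
    rw [S.B_sub_left, S.B_sub_right, S.B_sub_right, hv, hz, hzv]; ring
  refine ⟨S.T (z - v) (B v z)⁻¹, S.T_mem hu (by rw [map_inv₀, hs, inv_neg]), S.T_lin hu _, ?_⟩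
  rw [S.T_mulVec hu, S.B_sub_right, hv, sub_zero, inv_mul_cancel₀ h0, one_smul, add_sub_cancel]

/-- A fixed multiple of an isotropic vector. -/
theorem moves_fixed [Fintype F] {v : Fin n → F} (hv0 : v ≠ 0) (hv : B v v = 0) {k : E} (hk : k ≠ 0)
    (hkf : τ k = k) : Moves E M v (k • v) := by
  obtain ⟨θ, hθ0, hθ⟩ := S.exists_theta
  have hθE : algebraMap F E θ ≠ 0 := by simpa using hθ0
  have hθs : τ (algebraMap F E θ) = -algebraMap F E θ := by rw [S.tau_alg, hθ, map_neg]
  obtain ⟨y, hvy, hy⟩ := S.exists_partner hv0 hv hθE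
  have hyv : B y (k • v) = -(k * algebraMap F E θ) := by
    rw [S.B_right, hkf, S.B_herm, hvy, hθs, mul_neg]
  refine (S.moves_step hv hy (by rw [hvy]; exact hθE) (by rw [hvy, hθs])).trans (S.moves_step hy ?_ ?_ ?_)
  · rw [S.B_left, S.B_right, hv, mul_zero, mul_zero]
  · rw [hyv, neg_ne_zero]; exact mul_ne_zero hk hθE
  · rw [hyv, map_neg, map_mul, hkf, hθs, mul_neg, neg_neg]

/-- An isotropic vector perpendicular to neither of two perpendicular isotropic ones. -/
theorem exists_iso_link [Fintype F] {v z : Fin n → F} (hv0 : v ≠ 0) (hv : B v v = 0) (hz0 : z ≠ 0)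
    (hvz : B v z = 0) : ∃ y, B v y ≠ 0 ∧ B z y ≠ 0 ∧ B y y = 0 := by
  obtain ⟨a, ha⟩ := S.exists_B_eq hv0 (1 : E)
  obtain ⟨b, hb⟩ := S.exists_B_eq hz0 (1 : E)
  obtain ⟨c, hc1, hc2⟩ : ∃ c, B v c ≠ 0 ∧ B z c ≠ 0 := by
    by_cases h1 : B z a = 0
    · by_cases h2 : B v b = 0
      · exact ⟨a + b, by rw [S.B_add_right, ha, h2, add_zero]; exact one_ne_zero,
          by rw [S.B_add_right, hb, h1, zero_add]; exact one_ne_zero⟩
      · exact ⟨b, h2, by rw [hb]; exact one_ne_zero⟩
    · exact ⟨a, by rw [ha]; exact one_ne_zero, h1⟩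
  haveI := S.finiteE
  haveI : Fintype E := Fintype.ofFinite E
  obtain ⟨l, hl⟩ := Unit.exists_trace S.tau_ne S.tau_tau
    (show τ (-B c c) = -B c c by rw [map_neg, S.B_self_fixed])
  set y := c + (l / B v c) • v with hy
  have hvy : B v y = B v c := by rw [hy, S.B_add_right, S.B_right, hv, mul_zero, add_zero]
  have hzy : B z y = B z c := by
    rw [hy, S.B_add_right, S.B_right, show B z v = 0 by rw [S.B_herm, hvz, map_zero], mul_zero, add_zero]
  have hyy : B y y = 0 := by
    have hcv : B c v = τ (B v c) := S.B_herm v c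
    have hc' : τ (B v c) ≠ 0 := by simpa using hc1
    rw [hy, S.B_add_left, S.B_add_right, S.B_add_right, S.B_left, S.B_left, S.B_right, S.B_right, hcv, hv,
      map_div₀, div_mul_cancel₀ _ hc1, div_mul_cancel₀ _ hc', mul_zero, mul_zero, add_zero]
    linear_combination hl
  exact ⟨y, by rw [hvy]; exact hc1, by rw [hzy]; exact hc2, hyy⟩

/-- Isotropic lines are permuted transitively. -/
theorem moves_line [Fintype F] {v z : Fin n → F} (hv0 : v ≠ 0) (hv : B v v = 0) (hz0 : z ≠ 0) (hz : B z z = 0) :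
    ∃ κ : E, κ ≠ 0 ∧ Moves E M v (κ • z) := by
  obtain ⟨θ, hθ0, hθ⟩ := S.exists_theta
  set Θ := algebraMap F E θ with hΘ
  have hθE : Θ ≠ 0 := by simpa [hΘ] using hθ0
  have hθs : τ Θ = -Θ := by rw [hΘ, S.tau_alg, hθ, map_neg]
  have step : ∀ a b : Fin n → F, B a a = 0 → B b b = 0 → B a b ≠ 0 → ∃ κ : E, κ ≠ 0 ∧ Moves E M a (κ • b) := by
    intro a b ha hb hab
    refine ⟨τ (Θ / B a b), by simp [hθE, hab], S.moves_step ha ?_ ?_ ?_⟩
    · rw [S.B_left, S.B_right, hb, mul_zero, mul_zero]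
    · rw [S.B_right, S.tau_tau, div_mul_cancel₀ _ hab]; exact hθE
    · rw [S.B_right, S.tau_tau, div_mul_cancel₀ _ hab]; exact hθs
  by_cases hvz : B v z = 0
  · obtain ⟨y, hvy, hzy, hyy⟩ := S.exists_iso_link hv0 hv hz0 hvz
    obtain ⟨κ₁, hκ₁, h₁⟩ := step v y hv hyy hvy
    obtain ⟨κ₂, hκ₂, h₂⟩ := step y z hyy hz (by rw [S.B_herm]; simpa using hzy)
    exact ⟨κ₁ * κ₂, mul_ne_zero hκ₁ hκ₂, h₁.trans (by rw [mul_smul]; exact h₂.smul κ₁)⟩
  · exact step v z hv hz hvz

/-! ### Scalings -/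

/-- The hyperbolic scaling of a pair. -/
theorem exists_torus {w w' : Fin n → F} (hw : B w w = 0) (hw' : B w' w' = 0) {θ : E} (hθ0 : θ ≠ 0)
    (hθ : τ θ = -θ) (hww : B w w' = θ) {k k' : E} (hkk : k * τ k' = 1) :
    ∃ g : GL (Fin n) F, Iso f g ∧ Lin E g ∧
      (g : Matrix (Fin n) (Fin n) F).det = Algebra.norm F (k * k') ∧
      (g : Matrix (Fin n) (Fin n) F) *ᵥ w = k • w := by
  haveI := S.fin
  have hk : k ≠ 0 := left_ne_zero_of_mul_eq_one hkk
  have hk' : k' ≠ 0 := fun h => by simp [h] at hkk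
  have hw'w : B w' w = -θ := by rw [S.B_herm, hww, hθ]
  set c₁ : E := (k - 1) / θ with hc₁
  set c₂ : E := -((k' - 1) / θ) with hc₂
  have e₁ : 1 + S.Bl w' c₁ w = k := by rw [S.Bl_apply, hww, hc₁, div_mul_cancel₀ _ hθ0]; ring
  have e₂ : 1 + S.Bl w c₂ w' = k' := by rw [S.Bl_apply, hw'w, hc₂, neg_mul_neg, div_mul_cancel₀ _ hθ0]; ring
  have n₁ : 1 + S.Bl w' c₁ w ≠ 0 := by rw [e₁]; exact hk
  have n₂ : 1 + S.Bl w c₂ w' ≠ 0 := by rw [e₂]; exact hk'
  have hg : ∀ x, ((el (S.Bl w' c₁) w * el (S.Bl w c₂) w' : GL (Fin n) F) : Matrix (Fin n) (Fin n) F) *ᵥ x =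
      x + (c₁ * B x w') • w + (c₂ * B x w) • w' := fun x => by
    rw [gl_mul_mulVec, el_mulVec n₂, el_mulVec n₁, map_add, map_smul, S.Bl_apply, S.Bl_apply, S.Bl_apply, hw',
      mul_zero, smul_zero, add_zero]
    abel
  refine ⟨el (S.Bl w' c₁) w * el (S.Bl w c₂) w', fun x y => ?_, (el_lin n₁).mul (el_lin n₂), ?_, ?_⟩
  · rw [S.f_eq, S.f_eq, hg, hg]
    congr 1
    simp only [S.B_add_left, S.B_add_right, S.B_left, S.B_right, hw, hw', hww, hw'w, mul_zero, add_zero, zero_add,
      map_mul]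
    rw [S.B_herm y w, S.B_herm y w']
    have t₁ : τ c₁ = -((τ k - 1) / θ) := by rw [hc₁, map_div₀, map_sub, map_one, hθ, div_neg]
    have t₂ : τ c₂ = (τ k' - 1) / θ := by rw [hc₂, map_neg, map_div₀, map_sub, map_one, hθ, div_neg, neg_neg]
    have hkk' : τ k * k' = 1 := by
      have := congrArg τ hkk
      rwa [map_mul, map_one, S.tau_tau] at this
    rw [t₁, t₂, hc₁, hc₂]
    field_simp
    linear_combination (B x w' * τ (B y w)) * hkk - (B x w * τ (B y w')) * hkk'
  · rw [Units.val_mul, det_mul, el_det n₁, el_det n₂, e₁, e₂, map_mul]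
  · rw [hg, hw, mul_zero, zero_smul, add_zero, hww, hc₁, div_mul_cancel₀ _ hθ0, sub_smul, one_smul,
      add_sub_cancel]

/-- The scaling of an anisotropic vector. -/
theorem exists_scaling {y : Fin n → F} (hy : B y y ≠ 0) {ν : E} (hν : ν * τ ν = 1) :
    ∃ g : GL (Fin n) F, Iso f g ∧ Lin E g ∧ (g : Matrix (Fin n) (Fin n) F).det = Algebra.norm F ν ∧
      ∀ x, B x y = 0 → (g : Matrix (Fin n) (Fin n) F) *ᵥ x = x := by
  haveI := S.fin
  set c : E := (ν - 1) / B y y with hc
  have e : 1 + S.Bl y c y = ν := by rw [S.Bl_apply, hc, div_mul_cancel₀ _ hy]; ring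
  have nz : 1 + S.Bl y c y ≠ 0 := by rw [e]; exact left_ne_zero_of_mul_eq_one hν
  refine ⟨el (S.Bl y c) y, fun x z => ?_, el_lin nz, by rw [el_det nz, e], fun x hx => ?_⟩
  · rw [S.f_eq, S.f_eq, el_mulVec nz, el_mulVec nz, S.Bl_apply, S.Bl_apply]
    congr 1
    simp only [S.B_add_left, S.B_add_right, S.B_left, S.B_right, map_mul]
    rw [S.B_herm z y, hc, map_div₀, map_sub, map_one, S.B_self_fixed]
    field_simp
    linear_combination (B x y * τ (B z y)) * hν
  · rw [el_mulVec nz, S.Bl_apply, hx, mul_zero, zero_smul, add_zero]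

end Setting

end CfsgLib.ExtFieldUnit
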