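import Cfsg.Agent.Lib.ExtFieldUnit.Centres
import Cfsg.Agent.Lib.ExtFieldMax.Main
import Cfsg.Agent.Lib.GeomClasses.UnitGen

/-!
Maximality of the normaliser of an adjoint-closed field subalgebra of odd prime degree in the special
unitary group.
-/

set_option autoImplicit false
set_option linter.unusedSectionVars false
set_option linter.unusedSimpArgs false
set_option linter.style.haveILetI false

namespace CfsgLib.ExtFieldUnit

open Matrix Module GeomClasses

section data

variable {F : Type*} [Field F] {n : ℕ}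
variable {E : Type*} [Field E] [Algebra F E] [Module E (Fin n → F)] [IsScalarTower F E (Fin n → F)]
variable {σ : F ≃+* F} {f : (Fin n → F) → (Fin n → F) → F}

/-- The involution, the trace-like functional and the extended form of an adjoint-closed action. -/
theorem exists_data [FiniteDimensional F E] [FaithfulSMul E (Fin n → F)] (hf : Cfsg.Geo.IsUnitaryForm σ f)
    (hadj : ∀ a : E, ∃ b : E, ∀ x y, f (a • x) y = f x (b • y)) :
    ∃ (τ : E ≃+* E) (ω : E →ₗ[F] F) (B : (Fin n → F) → (Fin n → F) → E),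
      (∀ t : F, τ (algebraMap F E t) = algebraMap F E (σ t)) ∧ (∀ a, τ (τ a) = a) ∧
      (∀ (a : E) x y, f (a • x) y = f x (τ a • y)) ∧ ω ≠ 0 ∧ (∀ a, ω (τ a) = σ (ω a)) ∧
      ∀ (a : E) x y, ω (a * B x y) = f (a • x) y := by
  classical
  choose t ht using hadj
  have uniq : ∀ b b' : E, (∀ x y : Fin n → F, f x (b • y) = f x (b' • y)) → b = b' := fun b b' h =>
    FaithfulSMul.eq_of_smul_eq_smul fun y : Fin n → F => by
      by_contra hne
      obtain ⟨x, hx⟩ := (hf.nondegenerate _ (sub_ne_zero.2 hne)).1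
      exact hx (by rw [Unit.sub_right hf, h, sub_self])
  have htt : ∀ a, t (t a) = a := fun a => uniq _ _ fun x y => by
    rw [← ht, hf.herm, ← ht, ← hf.herm]
  have hadd : ∀ a b, t (a + b) = t a + t b := fun a b => uniq _ _ fun x y => by
    rw [← ht, add_smul, add_smul, Unit.add_left hf, Unit.add_right hf, ht, ht]
  have hmul : ∀ a b, t (a * b) = t a * t b := fun a b => uniq _ _ fun x y => by
    rw [← ht, mul_smul, ht, ht, ← mul_smul, mul_comm]
  let τ : E ≃+* E :=
    { toFun := t, invFun := t, left_inv := htt, right_inv := htt, map_mul' := hmul, map_add' := hadd }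
  have hτalg : ∀ c : F, τ (algebraMap F E c) = algebraMap F E (σ c) := fun c => uniq _ _ fun x y => by
    show f x (t (algebraMap F E c) • y) = _
    rw [← ht, algebraMap_smul, algebraMap_smul, Unit.smul_left hf, Unit.smul_right hf, hf.involutive]
  obtain ⟨e₀, he₀⟩ := Unit.exists_trace_ne_zero hf.ne_refl
  obtain ⟨φ, hφ⟩ : ∃ φ : E →ₗ[F] F, φ 1 = e₀ := by
    obtain ⟨φ, hφ⟩ := Module.Projective.exists_dual_ne_zero F (one_ne_zero (α := E))
    exact ⟨(e₀ / φ 1) • φ, by rw [LinearMap.smul_apply, smul_eq_mul, div_mul_cancel₀ _ hφ]⟩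
  let ω : E →ₗ[F] F :=
    { toFun := fun a => φ a + σ (φ (τ a))
      map_add' := fun a b => by rw [map_add, map_add, map_add, map_add]; ring
      map_smul' := fun c a => by
        have h1 : τ (c • a) = σ c • τ a := by rw [Algebra.smul_def, Algebra.smul_def, map_mul, hτalg]
        rw [h1, map_smul, map_smul, smul_eq_mul, smul_eq_mul, map_mul, hf.involutive, RingHom.id_apply,
          smul_eq_mul, mul_add] }
  have hω : ∀ a, ω a = φ a + σ (φ (τ a)) := fun a => rfl
  have hω1 : ω 1 ≠ 0 := by rw [hω, map_one τ, hφ]; exact he₀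
  let Φ : E →ₗ[F] Module.Dual F E := (LinearMap.mul F E).compr₂ ω
  have hΦ : ∀ a b, Φ a b = ω (a * b) := fun a b => rfl
  have hinj : Function.Injective Φ := fun b b' h => by
    by_contra hne
    have := LinearMap.congr_fun h (b - b')⁻¹
    rw [hΦ, hΦ, ← sub_eq_zero, ← map_sub, ← sub_mul, mul_inv_cancel₀ (sub_ne_zero.2 hne)] at this
    exact hω1 this
  have hB : ∀ x y : Fin n → F, ∃ c : E, ∀ a, ω (a * c) = f (a • x) y := fun x y => by
    let L : E →ₗ[F] F :=
      { toFun := fun a => f (a • x) y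
        map_add' := fun a b => by rw [add_smul, Unit.add_left hf]
        map_smul' := fun c a => by rw [smul_assoc, Unit.smul_left hf]; rfl }
    obtain ⟨c, hc⟩ := (LinearMap.injective_iff_surjective_of_finrank_eq_finrank
      Subspace.dual_finrank_eq.symm).1 hinj L
    exact ⟨c, fun a => by rw [mul_comm, ← hΦ, hc]; rfl⟩
  choose B hB' using hB
  exact ⟨τ, ω, B, hτalg, htt, ht, fun h0 => hω1 (by rw [h0]; rfl),
    fun a => by rw [hω, hω, show τ (τ a) = a from htt a, map_add, hf.involutive, add_comm], fun a x y => hB' x y a⟩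

end data

variable {F : Type*} [Field F] [Fintype F] {n q r : ℕ}

/-- The normaliser of an adjoint-closed field subalgebra of odd prime degree is maximal. -/
theorem maximal_field_all (hF : Fintype.card F = q ^ 2) (hr : r.Prime) (hro : Odd r) (h2 : 2 * r ≤ n)
    (hex : q ≠ 2 ∨ r ≠ 3 ∨ n ≠ 2 * r) (K : Subalgebra F (Matrix (Fin n) (Fin n) F))
    (hK : Cfsg.Geo.IsFieldSubalgebra r K) (hac : Cfsg.Geo.IsAdjointClosedFor (Cfsg.hermForm n F q) K) :
    Cfsg.Geo.IsMaximalIn (Cfsg.GU n F q ⊓ Cfsg.Geo.specialLinear (Fin n) F)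
      (Cfsg.Geo.subalgebraNormalizer K ⊓ (Cfsg.GU n F q ⊓ Cfsg.Geo.specialLinear (Fin n) F)) := by
  classical
  set G := Cfsg.GU n F q ⊓ Cfsg.Geo.specialLinear (Fin n) F with hG
  set H := Cfsg.Geo.subalgebraNormalizer K ⊓ G with hH
  have hr2 := hr.two_le
  haveI : Nonempty (Fin n) := ⟨⟨0, by omega⟩⟩
  letI : Field K := Geo.FieldTransvection.fieldOf hK
  have hfin : finrank F K = r := hK.finrank_eq
  haveI : FiniteDimensional F K := Module.finite_of_finrank_pos (by rw [hfin]; exact hr.pos)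
  have hsmul : ∀ (a : K) (w : Fin n → F), a • w = (a : Matrix (Fin n) (Fin n) F) *ᵥ w := fun a w => rfl
  haveI : FaithfulSMul K (Fin n → F) := ⟨fun {a b} h => Subtype.ext (Matrix.ext_of_mulVec_single fun i => by
    rw [← hsmul, ← hsmul, h])⟩
  have hf := UnitPow.isUnitaryForm_hermForm hF n
  obtain ⟨τ, ω, B, hta, htt, hadj, hω, hωt, hspec⟩ := exists_data (E := K) hf (fun a => by
    obtain ⟨k', hk', he⟩ := hac a a.2
    exact ⟨⟨k', hk'⟩, fun x y => he x y⟩)
  have setting : ∀ M : Subgroup (GL (Fin n) F), H ≤ M → M ≤ G →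
      Setting (UnitPow.conj hF) (Cfsg.hermForm n F q) τ ω B M := fun M hle hM =>
    { herm := hf
      prime := by rwa [hfin]
      odd := by rwa [hfin]
      big := by rwa [hfin]
      tau_alg := hta
      tau_tau := htt
      adj := hadj
      omega_ne := hω
      omega_tau := hωt
      spec := hspec
      cent := fun g hgi hgl hdet => hle ⟨ExtFieldMax.mem_normalizer_of_forall fun k hk => by
          have e : (g : Matrix (Fin n) (Fin n) F) * k * ((g⁻¹ : GL (Fin n) F) : Matrix (Fin n) (Fin n) F) = k := by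
            refine Matrix.ext_of_mulVec_single fun i => ?_
            rw [← mulVec_mulVec, ← mulVec_mulVec, ← hsmul ⟨k, hk⟩, hgl, gl_mulVec_inv_mulVec, hsmul]
          rwa [e], mem_preserving.2 hgi, mem_specialLinear.2 hdet⟩
      isom := fun g hg => mem_preserving.1 (hM hg).1 }
  have hsemi : ∀ g : GL (Fin n) F, Semi K g → g ∈ Cfsg.Geo.subalgebraNormalizer K := by
    rintro g ⟨χ, hχ⟩
    refine ExtFieldMax.mem_normalizer_of_forall fun k hk => ?_
    have e : (g : Matrix (Fin n) (Fin n) F) * k * ((g⁻¹ : GL (Fin n) F) : Matrix (Fin n) (Fin n) F) =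
        (χ ⟨k, hk⟩ : Matrix (Fin n) (Fin n) F) := by
      refine Matrix.ext_of_mulVec_single fun i => ?_
      rw [← mulVec_mulVec, ← mulVec_mulVec, ← hsmul ⟨k, hk⟩, hχ, gl_mulVec_inv_mulVec, hsmul]
    rw [e]
    exact (χ ⟨k, hk⟩).2
  have hcancel : ∀ (a : K) (w : Fin n → F), w ≠ 0 → a • w = 0 → a = 0 := fun a w hw0 h => by
    by_contra ha
    exact hw0 (by rw [← one_smul K w, ← inv_mul_cancel₀ ha, mul_smul, h, smul_zero])
  refine ⟨lt_of_le_not_ge inf_le_right fun hGH => ?_, fun M hle hM => ?_⟩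
  · -- a transvection of the ground field is not semilinear
    have S := setting G inf_le_right le_rfl
    obtain ⟨w, hw0, hw⟩ := S.exists_isotropic
    obtain ⟨θ, hθ0, hθ⟩ := S.exists_theta
    have hww : Cfsg.hermForm n F q w w = 0 := by rw [S.f_eq, hw, map_zero]
    have hmem : formTv (Cfsg.hermForm n F q) w θ ∈ G :=
      ⟨mem_preserving.2 fun x y => Unit.formTv_isometry hf hww (by rw [hθ, add_neg_cancel]) x y,
        formTv_mem_specialLinear _ _ _⟩
    have hN := (hGH hmem).1
    obtain ⟨y, hy⟩ := S.exists_B_eq hw0 (1 : K)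
    obtain ⟨x, hx⟩ := (hf.nondegenerate w hw0).1
    have key : ∀ a : K, Cfsg.hermForm n F q (a • x) w • w = Cfsg.hermForm n F q x w • (a • w) := by
      intro a
      set g := formTv (Cfsg.hermForm n F q) w θ with hg
      have ha := (hN a).1 a.2
      have hcomm : ∀ z, (g : Matrix (Fin n) (Fin n) F) *ᵥ (a • z) =
          (⟨_, ha⟩ : K) • ((g : Matrix (Fin n) (Fin n) F) *ᵥ z) := fun z => by
        rw [hsmul, hsmul, ← mulVec_mulVec, ← mulVec_mulVec, gl_inv_mulVec_mulVec]
      have h1 := hcomm w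
      rw [Unit.formTv_mulVec hf hww, Unit.formTv_mulVec hf hww, hww, mul_zero, zero_smul, add_zero,
        show Cfsg.hermForm n F q (a • w) w = 0 by rw [S.f_eq, S.B_left, hw, mul_zero, map_zero], mul_zero,
        zero_smul, add_zero] at h1
      have h1' : (a - ⟨_, ha⟩ : K) • w = 0 := by rw [sub_smul, ← h1, sub_self]
      have h2 := sub_eq_zero.1 (hcancel _ _ hw0 h1')
      have h3 := hcomm x
      rw [← h2, Unit.formTv_mulVec hf hww, Unit.formTv_mulVec hf hww, smul_add, add_right_inj, smul_comm a,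
        mul_smul, mul_smul] at h3
      exact smul_right_injective _ hθ0 h3
    have hbot : ∀ a : K, a ∈ (⊥ : Subalgebra F K) := fun a => by
      refine Algebra.mem_bot.2 ⟨Cfsg.hermForm n F q (a • x) w / Cfsg.hermForm n F q x w, ?_⟩
      by_contra hne
      have h4 : (algebraMap F K (Cfsg.hermForm n F q (a • x) w / Cfsg.hermForm n F q x w) - a) • w = 0 := by
        rw [sub_smul, algebraMap_smul, sub_eq_zero]
        refine smul_right_injective _ hx ?_
        show Cfsg.hermForm n F q x w • _ = Cfsg.hermForm n F q x w • _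
        rw [← key, smul_smul, mul_div_cancel₀ _ hx]
      exact hne (sub_eq_zero.1 (hcancel _ _ hw0 h4))
    have htop : (⊥ : Subalgebra F K) = ⊤ := eq_top_iff.2 fun a _ => hbot a
    have h5 : finrank F (⊥ : Subalgebra F K) = finrank F K := by
      rw [htop]; exact Subalgebra.topEquiv.toLinearEquiv.finrank_eq
    rw [Subalgebra.finrank_bot, hfin] at h5
    omega
  · have S := setting M hle hM
    by_cases hgood : ∃ p, S.Good p
    · refine Or.inr (le_antisymm hM ?_)
      obtain ⟨z, hz0, hz, hzM⟩ := S.exists_special hgood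
      have hn3 : ¬(n = 3 ∧ q = 2) := fun h => by omega
      refine UnitGen.specialUnitary_le_of_formTv_mem hF (by omega) hn3 fun v hv c hc => ?_
      refine (S.centre_all hF (fun t => rfl) ?_ hz0 hz ⟨S.f_self_of_iso hz, hzM⟩ hv).2 c ?_
      · rwa [hfin]
      · rw [UnitPow.conj_apply]; exact eq_neg_of_add_eq_zero_right hc
    · refine Or.inl (le_antisymm (fun g hg => ?_) hle)
      exact ⟨hsemi g (S.semi_of_no_good (not_exists.1 hgood) hg), hM hg⟩

/-- The normaliser of an adjoint-closed field subalgebra of odd prime degree is maximal, away from `n = 3r`. -/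
theorem maximal_field (hF : Fintype.card F = q ^ 2) (hr : r.Prime) (hro : Odd r) (h2 : 2 * r ≤ n)
    (_h3 : n ≠ 3 * r) (hex : q ≠ 2 ∨ r ≠ 3 ∨ n ≠ 2 * r) (K : Subalgebra F (Matrix (Fin n) (Fin n) F))
    (hK : Cfsg.Geo.IsFieldSubalgebra r K) (hac : Cfsg.Geo.IsAdjointClosedFor (Cfsg.hermForm n F q) K) :
    Cfsg.Geo.IsMaximalIn (Cfsg.GU n F q ⊓ Cfsg.Geo.specialLinear (Fin n) F)
      (Cfsg.Geo.subalgebraNormalizer K ⊓ (Cfsg.GU n F q ⊓ Cfsg.Geo.specialLinear (Fin n) F)) :=
  maximal_field_all hF hr hro h2 hex K hK hac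

end CfsgLib.ExtFieldUnit
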