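import Cfsg.Agent.Lib.ExtFieldUnit.Forms
import Cfsg.Agent.Lib.ExtFieldUnit.Descent

/-!
An element of the overgroup which is not semilinear gives a good triple: an isotropic line meeting the
perpendicular space of the image of another one in a proper non-zero part.
-/

set_option autoImplicit false
set_option linter.unusedSectionVars false
set_option linter.unusedSimpArgs false
set_option linter.style.haveILetI false

namespace CfsgLib.ExtFieldUnit

open Matrix Module GeomClasses

variable {F : Type*} [Field F] {n : ℕ}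
variable {E : Type*} [Field E] [Algebra F E] [Module E (Fin n → F)] [IsScalarTower F E (Fin n → F)]
variable {σ : F ≃+* F} {f : (Fin n → F) → (Fin n → F) → F} {τ : E ≃+* E} {ω : E →ₗ[F] F}
  {B : (Fin n → F) → (Fin n → F) → E} {M : Subgroup (GL (Fin n) F)}

variable (E) in
/-- The element is semilinear for the extension. -/
def Semi (g : GL (Fin n) F) : Prop :=
  ∃ χ : E → E, ∀ (a : E) x,
    (g : Matrix (Fin n) (Fin n) F) *ᵥ (a • x) = χ a • ((g : Matrix (Fin n) (Fin n) F) *ᵥ x)

namespace Setting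

variable (S : Setting σ f τ ω B M)
include S

omit S in
/-- `a ↦ B(g⁻¹ (a u), v)`. -/
noncomputable def Psi (S : Setting σ f τ ω B M) (g : GL (Fin n) F) (v u : Fin n → F) : E →ₗ[F] E where
  toFun a := B (((g⁻¹ : GL (Fin n) F) : Matrix (Fin n) (Fin n) F) *ᵥ (a • u)) v
  map_add' a b := by rw [add_smul, mulVec_add, S.B_add_left]
  map_smul' t a := by rw [smul_assoc, mulVec_smul, S.B_smul_left, RingHom.id_apply]

theorem Psi_apply (g : GL (Fin n) F) (v u : Fin n → F) (a : E) :
    S.Psi g v u a = B (((g⁻¹ : GL (Fin n) F) : Matrix (Fin n) (Fin n) F) *ᵥ (a • u)) v := rfl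

omit S in
/-- A line meeting the perpendicular space of a root line in a proper non-zero subspace. -/
def Good (S : Setting σ f τ ω B M) (p : GL (Fin n) F × (Fin n → F) × (Fin n → F)) : Prop :=
  p.1 ∈ M ∧ B p.2.1 p.2.1 = 0 ∧ B p.2.2 p.2.2 = 0 ∧ S.Psi p.1 p.2.1 p.2.2 ≠ 0 ∧
    LinearMap.ker (S.Psi p.1 p.2.1 p.2.2) ≠ ⊥

theorem B_sum_left {κ : Type} (t : Finset κ) (c : κ → Fin n → F) (y : Fin n → F) :
    B (∑ i ∈ t, c i) y = ∑ i ∈ t, B (c i) y := by
  classical
  induction t using Finset.induction_on with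
  | empty => simp [S.B_zero_left]
  | insert i s hi ih => rw [Finset.sum_insert hi, Finset.sum_insert hi, S.B_add_left, ih]

theorem B_sum_right {κ : Type} (t : Finset κ) (c : κ → Fin n → F) (x : Fin n → F) :
    B x (∑ i ∈ t, c i) = ∑ i ∈ t, B x (c i) := by
  rw [S.B_herm, S.B_sum_left, map_sum]
  exact Finset.sum_congr rfl fun i _ => (S.B_herm _ _).symm

theorem B_smul_right (t : F) (x y : Fin n → F) : B x (t • y) = σ t • B x y := by
  rw [S.B_herm, S.B_smul_left, S.tau_smul, ← S.B_herm]

/-- A basis of the extension consisting of fixed elements. -/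
theorem exists_fixed_basis : ∃ b : Basis (Fin (finrank F E)) F E, ∀ i, τ (b i) = b i := by
  classical
  haveI := S.fin
  obtain ⟨l, hl⟩ := Unit.exists_moved S.herm.ne_refl
  obtain ⟨κ, a, -, hsp, hli⟩ := exists_linearIndependent' F (fun s : {s : E // τ s = s} => (s : E))
  have htop : ⊤ ≤ Submodule.span F (Set.range ((fun s : {s : E // τ s = s} => (s : E)) ∘ a)) := by
    rw [hsp]
    intro e _
    obtain ⟨p, q, hp, hq, rfl⟩ := S.exists_parts hl e
    exact Submodule.add_mem _ (Submodule.subset_span ⟨⟨p, hp⟩, rfl⟩)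
      (Submodule.smul_mem _ _ (Submodule.subset_span ⟨⟨q, hq⟩, rfl⟩))
  let b := Basis.mk hli htop
  refine ⟨b.reindex (b.indexEquiv (finBasis F E)), fun i => ?_⟩
  rw [Basis.reindex_apply, Basis.mk_apply]
  exact (a _).2

/-- A vector of an isotropic line with isotropic image. -/
theorem exists_iso_image [Fintype F] {g : GL (Fin n) F} (hg : g ∈ M) {v : Fin n → F} (hv : B v v = 0) :
    ∃ e : E, e ≠ 0 ∧
      B ((g : Matrix (Fin n) (Fin n) F) *ᵥ (e • v)) ((g : Matrix (Fin n) (Fin n) F) *ᵥ (e • v)) = 0 := by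
  classical
  haveI := S.fin
  obtain ⟨b, hb⟩ := S.exists_fixed_basis
  obtain ⟨m, hm⟩ : ∃ m, finrank F E = m + 1 := ⟨finrank F E - 1, by have := S.prime.pos; omega⟩
  let b' : Basis (Fin (m + 1)) F E := b.reindex (finCongr hm)
  have hb' : ∀ i, τ (b' i) = b' i := fun i => by rw [Basis.reindex_apply]; exact hb _
  obtain ⟨i₀, hi₀⟩ : ∃ i, b'.repr 1 i ≠ 0 := by
    by_contra hc
    push Not at hc
    exact one_ne_zero (α := E) (b'.repr.map_eq_zero_iff.1 (Finsupp.ext hc))
  obtain ⟨l, hl⟩ := Unit.exists_moved S.herm.ne_refl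
  let c : Fin ((m + 1) + (m + 1)) → E := Fin.append b' fun i => l • b' i
  set gv : E → (Fin n → F) := fun e => (g : Matrix (Fin n) (Fin n) F) *ᵥ (e • v) with hgv
  obtain ⟨t, ht, ht0, hz⟩ := exists_common_zero (σ := σ) (k := (m + 1) + (m + 1)) (m := m) (by omega)
    (fun i j p => ω (b' (i₀.succAbove i) * B (gv (c j)) (gv (c p)))) (fun i j p => by
      rw [← S.omega_tau, map_mul, hb', ← S.B_herm])
  set e : E := ∑ j, t j • c j with he
  have hge : gv e = ∑ j, t j • gv (c j) := by
    simp only [hgv, he, Finset.sum_smul, mulVec_sum, smul_assoc, mulVec_smul]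
  refine ⟨e, fun he0 => ht0 (funext fun j => ?_), S.ext0 fun x => ?_⟩
  · -- independence over the fixed field
    have hsplit : e = ∑ i, (t (Fin.castAdd _ i) + l * t (Fin.natAdd _ i)) • b' i := by
      rw [he, Fin.sum_univ_add, ← Finset.sum_add_distrib]
      refine Finset.sum_congr rfl fun i _ => ?_
      simp only [c, Fin.append_left, Fin.append_right, smul_smul, add_smul, mul_comm]
    rw [he0] at hsplit
    have h1 := Fintype.linearIndependent_iff.1 b'.linearIndependent _ hsplit.symm
    have h2 : ∀ i, t (Fin.natAdd _ i) = 0 ∧ t (Fin.castAdd _ i) = 0 := fun i => by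
      have h3 := congrArg σ (h1 i)
      rw [map_add, map_mul, ht, ht, map_zero] at h3
      have h4 : (l - σ l) * t (Fin.natAdd _ i) = 0 := by linear_combination h1 i - h3
      have h5 := (mul_eq_zero.1 h4).resolve_left (sub_ne_zero.2 (Ne.symm hl))
      refine ⟨h5, ?_⟩
      have h6 := h1 i
      rwa [h5, mul_zero, add_zero] at h6
    refine Fin.addCases (fun i => ?_) (fun i => ?_) j
    · exact (h2 i).2
    · exact (h2 i).1
  · -- the product vanishes against the whole basis
    set q := B (gv e) (gv e) with hq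
    have hq1 : ω q = 0 := by
      rw [hq, ← S.f_eq, hgv, S.isom g hg, S.f_eq, S.B_left, S.B_right, hv, mul_zero, mul_zero, map_zero]
    have hqi : ∀ i, ω (b' (i₀.succAbove i) * q) = 0 := fun i => by
      rw [← hz i, hq, hge, S.B_sum_left, Finset.mul_sum, map_sum]
      refine Finset.sum_congr rfl fun j _ => ?_
      rw [S.B_sum_right, Finset.mul_sum, map_sum]
      refine Finset.sum_congr rfl fun p _ => ?_
      rw [S.B_smul_left, S.B_smul_right, ht, smul_smul, mul_smul_comm, map_smul, smul_eq_mul]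
    have h0 : ω (b' i₀ * q) = 0 := by
      have h1 : ω ((∑ i, b'.repr 1 i • b' i) * q) = 0 := by rw [b'.sum_repr, one_mul, hq1]
      rw [Finset.sum_mul, map_sum, Fin.sum_univ_succAbove _ i₀] at h1
      simp only [smul_mul_assoc, map_smul, smul_eq_mul, hqi, mul_zero, Finset.sum_const_zero, add_zero] at h1
      exact (mul_eq_zero.1 h1).resolve_left hi₀
    rw [← b'.sum_repr x, Finset.sum_mul, map_sum]
    refine Finset.sum_eq_zero fun i _ => ?_
    rw [smul_mul_assoc, map_smul]
    rcases Fin.eq_self_or_eq_succAbove i₀ i with rfl | ⟨p, rfl⟩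
    · rw [h0, smul_zero]
    · rw [hqi, smul_zero]

/-- A vector perpendicular to an isotropic one and off its line has an isotropic perpendicular vector off the
perpendicular space of the isotropic one. -/
theorem exists_iso_split [Fintype F] {z p : Fin n → F} (hz0 : z ≠ 0) (hz : B z z = 0) (hzp : B z p = 0)
    (hp : ∀ t : E, p ≠ t • z) : ∃ v, B v v = 0 ∧ B p v = 0 ∧ B z v ≠ 0 := by
  haveI := S.fin
  haveI := S.finiteE
  haveI : Fintype E := Fintype.ofFinite E
  obtain ⟨y, hpy, hzy⟩ : ∃ y, B p y = 0 ∧ B z y ≠ 0 := by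
    by_contra hc
    push Not at hc
    have hp0 : p ≠ 0 := fun h0 => hp 0 (by rw [h0, zero_smul])
    obtain ⟨t, ht⟩ := S.mem_line hp0 hc
    have ht0 : t ≠ 0 := fun h0 => hz0 (by rw [ht, h0, zero_smul])
    exact hp t⁻¹ (by rw [ht, smul_smul, inv_mul_cancel₀ ht0, one_smul])
  obtain ⟨l, hl⟩ := Unit.exists_trace S.tau_ne S.tau_tau
    (show τ (-B y y) = -B y y by rw [map_neg, S.B_self_fixed])
  have hpz : B p z = 0 := by rw [S.B_herm, hzp, map_zero]
  have hne : τ (B z y) ≠ 0 := by simpa using hzy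
  refine ⟨y + (l / B z y) • z, ?_, ?_, ?_⟩
  · rw [S.B_add_left, S.B_add_right, S.B_add_right, S.B_left, S.B_left, S.B_right, S.B_right, S.B_herm z y,
      hz, map_div₀, div_mul_cancel₀ _ hzy, div_mul_cancel₀ _ hne, mul_zero, mul_zero, add_zero]
    linear_combination hl
  · rw [S.B_add_right, S.B_right, hpy, hpz, mul_zero, add_zero]
  · rw [S.B_add_right, S.B_right, hz, mul_zero, add_zero]
    exact hzy

/-- There is an isotropic vector. -/
theorem exists_isotropic [Fintype F] : ∃ v : Fin n → F, v ≠ 0 ∧ B v v = 0 := by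
  classical
  haveI := S.fin
  haveI := S.finV
  haveI := S.finiteE
  haveI : Fintype E := Fintype.ofFinite E
  by_contra hc
  push Not at hc
  obtain ⟨i⟩ : Nonempty (Fin n) := ⟨⟨0, by have := S.big; have := S.prime.pos; omega⟩⟩
  set x : Fin n → F := Pi.single i 1 with hx
  have hxx : B x x ≠ 0 := hc x (by simp [hx])
  have htower := Module.finrank_mul_finrank F E (Fin n → F)
  rw [Module.finrank_fintype_fun_eq_card, Fintype.card_fin] at htower
  obtain ⟨y, hy, hy0⟩ := (Submodule.ne_bot_iff _).1 (LinearMap.ker_ne_bot_of_finrank_lt (f := S.Bl x 1) (by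
    rw [Module.finrank_self]
    by_contra hle
    have h4 := Nat.mul_le_mul_left (finrank F E) (show finrank E (Fin n → F) ≤ 1 by omega)
    have := S.big
    have := S.prime.pos
    omega))
  rw [LinearMap.mem_ker, S.Bl_apply, one_mul] at hy
  have hxy : B x y = 0 := by rw [S.B_herm, hy, map_zero]
  obtain ⟨ν, hν⟩ := Unit.exists_norm S.tau_ne S.tau_tau
    (show τ (-(B x x / B y y)) = -(B x x / B y y) by rw [map_neg, map_div₀, S.B_self_fixed, S.B_self_fixed])
  refine hc (x + ν • y) (fun h0 => hxx ?_) ?_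
  · have h1 := congrArg (fun z => B z x) h0
    simpa [S.B_add_left, S.B_left, hy, S.B_zero_left] using h1
  · rw [S.B_add_left, S.B_add_right, S.B_add_right, S.B_left, S.B_left, S.B_right, S.B_right, hy, hxy,
      mul_zero, mul_zero, add_zero, zero_add, ← mul_assoc, hν, neg_mul, div_mul_cancel₀ _ (hc y hy0),
      add_neg_cancel]

/-- An element of the overgroup is semilinear unless some triple is good. -/
theorem semi_of_no_good [Fintype F] (hno : ∀ p, ¬ S.Good p) {g : GL (Fin n) F} (hg : g ∈ M) : Semi E g := by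
  classical
  haveI := S.fin
  haveI := S.finiteE
  haveI : Fintype E := Fintype.ofFinite E
  set G : (Fin n → F) → (Fin n → F) := fun x => (g : Matrix (Fin n) (Fin n) F) *ᵥ x with hG
  have hGinj : Function.Injective G := gl_mulVec_injective g
  -- lines go to lines
  have hline : ∀ v, v ≠ 0 → B v v = 0 → ∀ a : E, ∃ c : E, G (a • v) = c • G v := by
    intro v hv0 hv
    obtain ⟨e, he0, he⟩ := S.exists_iso_image hg hv
    set z := e • v with hz
    have hz0 : z ≠ 0 := fun h0 => hv0 ((smul_eq_zero.1 h0).resolve_left he0)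
    have hzz : B z z = 0 := by rw [hz, S.B_left, S.B_right, hv, mul_zero, mul_zero]
    have key : ∀ a : E, ∃ t : E, ((g⁻¹ : GL (Fin n) F) : Matrix (Fin n) (Fin n) F) *ᵥ (a • G z) = t • z :=
      fun a => by
        by_contra hc
        push Not at hc
        have hperp : ∀ v', B v' v' = 0 → B z v' = 0 → S.Psi g v' (G z) a = 0 := fun v' hv' hzv' => by
          have hone : (1 : E) ∈ LinearMap.ker (S.Psi g v' (G z)) := by
            rw [LinearMap.mem_ker, S.Psi_apply, one_smul, hG, gl_inv_mulVec_mulVec, hzv']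
          have hz' : S.Psi g v' (G z) = 0 := by
            by_contra hne
            exact hno (g, v', G z) ⟨hg, hv', he, hne,
              fun hb => one_ne_zero (α := E) (by rw [hb] at hone; exact hone)⟩
          exact LinearMap.congr_fun hz' a
        have hzp : B z (((g⁻¹ : GL (Fin n) F) : Matrix (Fin n) (Fin n) F) *ᵥ (a • G z)) = 0 := by
          rw [S.B_herm, ← S.Psi_apply, hperp z hzz hzz, map_zero]
        obtain ⟨v', hv', hpv, hzv⟩ := S.exists_iso_split hz0 hzz hzp hc
        have ha : a ≠ 0 := fun h0 => hc 0 (by rw [h0, zero_smul, zero_smul, mulVec_zero])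
        have hz' : S.Psi g v' (G z) = 0 := by
          by_contra hne
          refine hno (g, v', G z) ⟨hg, hv', he, hne, fun hb => ha ?_⟩
          have hmem : a ∈ LinearMap.ker (S.Psi g v' (G z)) := LinearMap.mem_ker.2 hpv
          rwa [hb, Submodule.mem_bot] at hmem
        have h1 := LinearMap.congr_fun hz' (1 : E)
        rw [S.Psi_apply, one_smul, hG, gl_inv_mulVec_mulVec, LinearMap.zero_apply] at h1
        exact hzv h1
    choose t ht using key
    have htinj : Function.Injective t := fun a a' h => by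
      have h1 := (ht a).trans ((congrArg (· • z) h).trans (ht a').symm)
      have h2 := gl_mulVec_injective g⁻¹ h1
      by_contra hne
      have h3 : (a - a') • G z = 0 := by rw [sub_smul, sub_eq_zero]; exact h2
      exact hz0 (hGinj (((smul_eq_zero.1 h3).resolve_left (sub_ne_zero.2 hne)).trans (mulVec_zero _).symm))
    have hG' : ∀ a, G (t a • z) = a • G z := fun a => by
      rw [← ht a, hG]; exact gl_mulVec_inv_mulVec g _
    obtain ⟨a₁, ha₁⟩ := Finite.surjective_of_injective htinj e⁻¹
    have hv1 : G v = a₁ • G z := by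
      rw [← hG' a₁, ha₁, hz, smul_smul, inv_mul_cancel₀ he0, one_smul]
    have ha10 : a₁ ≠ 0 := fun h0 => hv0 (hGinj (hv1.trans (by rw [h0, zero_smul]; exact (mulVec_zero _).symm)))
    intro a
    obtain ⟨a', ha'⟩ := Finite.surjective_of_injective htinj (a / e)
    refine ⟨a' / a₁, ?_⟩
    rw [hv1, smul_smul, div_mul_cancel₀ _ ha10, ← hG' a', ha', hz, smul_smul, div_mul_cancel₀ _ he0]
  choose! χ hχ using hline
  have hG0 : ∀ v, v ≠ 0 → G v ≠ 0 := fun v hv => gl_mulVec_ne_zero g hv
  have hadd : ∀ x y, G (x + y) = G x + G y := fun x y => mulVec_add _ _ _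
  have hsub : ∀ x y, G (x - y) = G x - G y := fun x y => mulVec_sub _ _ _
  have hiso : ∀ {v : Fin n → F} (a : E), B v v = 0 → B (a • v) (a • v) = 0 := fun a hv => by
    rw [S.B_left, S.B_right, hv, mul_zero, mul_zero]
  have uniq : ∀ v, v ≠ 0 → ∀ {a b : E}, a • G v = b • G v → a = b := fun v hv a b h => by
    by_contra hne
    exact hG0 v hv ((smul_eq_zero.1 (by rw [sub_smul, h, sub_self] : (a - b) • G v = 0)).resolve_left
      (sub_ne_zero.2 hne))
  have hmulχ : ∀ v, v ≠ 0 → B v v = 0 → ∀ k : E, k ≠ 0 → ∀ a, χ (k • v) a * χ v k = χ v (a * k) :=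
    fun v hv0 hv k hk a => uniq v hv0 (by
      rw [mul_smul, ← hχ v hv0 hv k, ← hχ (k • v) (smul_ne_zero hk hv0) (hiso k hv) a, smul_smul,
        hχ v hv0 hv (a * k)])
  -- a skew pair shares its multiplier
  have pair : ∀ v w, v ≠ 0 → B v v = 0 → w ≠ 0 → B w w = 0 → B v w ≠ 0 → τ (B v w) = -B v w →
      ∀ a, χ v a = χ w a := by
    intro v w hv0 hv hw0 hw hvw hs a
    have hwv : B w v = -B v w := by rw [S.B_herm, hs]
    have hvw' : v + w ≠ 0 := fun h0 => hvw (by
      rw [eq_neg_of_add_eq_zero_right h0, S.B_neg_right, hv, neg_zero])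
    have hsum : B (v + w) (v + w) = 0 := by
      rw [S.B_add_left, S.B_add_right, S.B_add_right, hv, hw, hwv]; ring
    have e := hχ (v + w) hvw' hsum a
    rw [smul_add, hadd, hadd, hχ v hv0 hv, hχ w hw0 hw, smul_add] at e
    have hind : ∀ p q : E, p • G v + q • G w = 0 → p = 0 ∧ q = 0 := by
      intro p q hpq
      by_cases hq : q = 0
      · rw [hq, zero_smul, add_zero, smul_eq_zero] at hpq
        exact ⟨hpq.resolve_right (hG0 v hv0), hq⟩
      exfalso
      -- the image of `w` would lie on the image of the line of `v`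
      have hχinj : Function.Injective (χ v) := fun b b' hb => by
        by_contra hne
        have : G (b • v) = G (b' • v) := by rw [hχ v hv0 hv, hχ v hv0 hv, hb]
        have h2 := hGinj this
        exact hv0 ((smul_eq_zero.1 (by rw [sub_smul, h2, sub_self] : (b - b') • v = 0)).resolve_left
          (sub_ne_zero.2 hne))
      obtain ⟨b, hb⟩ := Finite.surjective_of_injective hχinj (-(p / q))
      have h1 : G w = G (b • v) := by
        rw [hχ v hv0 hv, hb, neg_smul, eq_neg_iff_add_eq_zero]
        have := congrArg (fun x => q⁻¹ • x) hpq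
        simp only [smul_add, smul_smul, inv_mul_cancel₀ hq, one_smul, smul_zero] at this
        rw [add_comm, div_eq_mul_inv, mul_comm]
        exact this
      exact hvw (by rw [hGinj h1, S.B_right, hv, mul_zero])
    have h2 := hind (χ v a - χ (v + w) a) (χ w a - χ (v + w) a) (by
      rw [sub_smul, sub_smul, sub_add_sub_comm, e, sub_self])
    rw [sub_eq_zero.1 h2.1, sub_eq_zero.1 h2.2]
  -- the multiplier at an isotropic vector is multiplicative
  have hone : ∀ v, v ≠ 0 → B v v = 0 → χ v 1 = 1 := fun v hv0 hv => uniq v hv0 (by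
    rw [← hχ v hv0 hv 1, one_smul, one_smul])
  obtain ⟨l, hl⟩ := Unit.exists_moved S.herm.ne_refl
  obtain ⟨θ, hθ0, hθ⟩ := S.exists_theta
  have hθE : algebraMap F E θ ≠ 0 := by simpa using hθ0
  have hθs : τ (algebraMap F E θ) = -algebraMap F E θ := by rw [S.tau_alg, hθ, map_neg]
  have hmult : ∀ v, v ≠ 0 → B v v = 0 → ∀ a b, χ v (a * b) = χ v a * χ v b := by
    intro v hv0 hv
    obtain ⟨w, hvw, hw⟩ := S.exists_partner hv0 hv hθE
    have hw0 : w ≠ 0 := fun h0 => hθE (by rw [← hvw, h0, S.B_zero_right])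
    have hfix : ∀ s, τ s = s → ∀ a, χ v (a * s) = χ v a * χ v s := by
      intro s hs a
      by_cases hs0 : s = 0
      · rw [hs0, mul_zero]
        have h0 : χ v 0 = 0 := uniq v hv0 (by rw [← hχ v hv0 hv 0, zero_smul, zero_smul]; exact mulVec_zero _)
        rw [h0, mul_zero]
      have hsw : B v (s • w) = s * algebraMap F E θ := by rw [S.B_right, hs, hvw]
      have e1 := pair v (s • w) hv0 hv (smul_ne_zero hs0 hw0) (hiso s hw)
        (by rw [hsw]; exact mul_ne_zero hs0 hθE) (by rw [hsw, map_mul, hs, hθs, mul_neg]) a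
      have e2 := pair v w hv0 hv hw0 hw (by rw [hvw]; exact hθE) (by rw [hvw, hθs])
      rw [e1, e2 (a * s), e2 s, hmulχ w hw0 hw s hs0 a]
    have hlinF : ∀ (t : F) a, χ v (t • a) = t • χ v a := fun t a => uniq v hv0 (by
      rw [← hχ v hv0 hv, smul_assoc, smul_assoc, ← hχ v hv0 hv]; exact mulVec_smul _ _ _)
    have haddE : ∀ a b, χ v (a + b) = χ v a + χ v b := fun a b => uniq v hv0 (by
      rw [← hχ v hv0 hv, add_smul, add_smul, ← hχ v hv0 hv, ← hχ v hv0 hv, hadd])
    intro a b
    obtain ⟨p, p', hp, hp', rfl⟩ := S.exists_parts hl b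
    rw [mul_add, haddE, haddE, mul_smul_comm, hlinF, hlinF, hfix p hp, hfix p' hp', mul_add, mul_smul_comm]
  have hscale : ∀ v, v ≠ 0 → B v v = 0 → ∀ k : E, k ≠ 0 → ∀ a, χ (k • v) a = χ v a := by
    intro v hv0 hv k hk a
    have h1 := hmulχ v hv0 hv k hk a
    rw [hmult v hv0 hv a k] at h1
    have h0 : χ v k ≠ 0 := fun h0 => hG0 (k • v) (smul_ne_zero hk hv0) (by rw [hχ v hv0 hv, h0, zero_smul])
    exact mul_right_cancel₀ h0 h1
  have nonperp : ∀ v w, v ≠ 0 → B v v = 0 → w ≠ 0 → B w w = 0 → B v w ≠ 0 → ∀ a, χ v a = χ w a := by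
    intro v w hv0 hv hw0 hw hvw a
    set k := τ (algebraMap F E θ / B v w) with hk
    have hk0 : k ≠ 0 := by simp [hk, hθ0, hvw]
    have hval : B v (k • w) = algebraMap F E θ := by rw [S.B_right, hk, S.tau_tau, div_mul_cancel₀ _ hvw]
    rw [pair v (k • w) hv0 hv (smul_ne_zero hk0 hw0) (hiso k hw) (by rw [hval]; exact hθE) (by rw [hval, hθs]) a,
      hscale w hw0 hw k hk0 a]
  have same : ∀ v w, v ≠ 0 → B v v = 0 → w ≠ 0 → B w w = 0 → ∀ a, χ v a = χ w a := by
    intro v w hv0 hv hw0 hw a
    by_cases hvw : B v w = 0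
    · obtain ⟨y, hvy, hwy, hy⟩ := S.exists_iso_link hv0 hv hw0 hvw
      have hy0 : y ≠ 0 := fun h0 => hvy (by rw [h0, S.B_zero_right])
      rw [nonperp v y hv0 hv hy0 hy hvy a, nonperp w y hw0 hw hy0 hy hwy a]
    · exact nonperp v w hv0 hv hw0 hw hvw a
  -- one multiplier for everything
  obtain ⟨v, hv0, hv⟩ := S.exists_isotropic
  have hisoAll : ∀ w, B w w = 0 → ∀ a, G (a • w) = χ v a • G w := fun w hw a => by
    by_cases hw0 : w = 0
    · rw [hw0, smul_zero, show G 0 = 0 from mulVec_zero _, smul_zero]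
    · rw [hχ w hw0 hw, same w v hw0 hw hv0 hv]
  have hnonperp : ∀ x, B x v ≠ 0 → ∀ a, G (a • x) = χ v a • G x := by
    intro x hxv a
    obtain ⟨l', hl'⟩ := Unit.exists_trace S.tau_ne S.tau_tau
      (show τ (-B x x) = -B x x by rw [map_neg, S.B_self_fixed])
    set d := τ (l' / B x v) with hd
    have hvx : B v x = τ (B x v) := S.B_herm x v
    have hne : τ (B x v) ≠ 0 := by simpa using hxv
    have hy : B (x + d • v) (x + d • v) = 0 := by
      rw [S.B_add_left, S.B_add_right, S.B_add_right, S.B_left, S.B_left, S.B_right, S.B_right, hvx, hv, hd,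
        S.tau_tau, div_mul_cancel₀ _ hxv, map_div₀, div_mul_cancel₀ _ hne, mul_zero, mul_zero, add_zero]
      linear_combination hl'
    have h1 := hisoAll _ hy a
    have h2 := hisoAll (d • v) (hiso d hv) a
    rw [smul_add, hadd, h2, hadd, smul_add] at h1
    exact add_right_cancel h1
  refine ⟨χ v, fun a x => ?_⟩
  by_cases hxv : B x v = 0
  · obtain ⟨y, hy⟩ := S.exists_B_eq hv0 (1 : E)
    have hyv : B y v = 1 := by rw [S.B_herm, hy, map_one]
    have h1 := hnonperp (x + y) (by rw [S.B_add_left, hxv, hyv, zero_add]; exact one_ne_zero) a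
    have h2 := hnonperp y (by rw [hyv]; exact one_ne_zero) a
    rw [smul_add, hadd, h2, hadd, smul_add] at h1
    exact add_right_cancel h1
  · exact hnonperp x hxv a

end Setting

end CfsgLib.ExtFieldUnit
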